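import Groth.Agent.AnPts.Basic
import Mathlib.AlgebraicGeometry.AffineSpace
import Mathlib.Topology.Algebra.MvPolynomial
import Mathlib.Topology.LocallyClosed

/-! Complex points of affine schemes: the topology is that of the coordinates. -/

open AlgebraicGeometry CategoryTheory TopologicalSpace

noncomputable section

namespace Groth.Agent.AnPts

open An An.Pts

variable {X : Scheme.{0}} [X.Over SC]

theorem evTop_eq (x : Pts X) (f : Γ(X, ⊤)) :
    x.evTop f = (Scheme.ΓSpecIso (CommRingCat.of ℂ)).hom (x.1.appTop f) := by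
  unfold evTop ev
  congr 1

/-- Evaluation of global functions at a complex point, as a ring homomorphism. -/
abbrev evTopHom (x : Pts X) : Γ(X, ⊤) →+* ℂ := evHom x ⊤ (Opens.mem_top _)

theorem evTop_strHom (x : Pts X) (c : ℂ) : x.evTop (strHom X c) = c := by
  rw [evTop_eq]
  change (Scheme.ΓSpecIso (CommRingCat.of ℂ)).hom
    (x.1.appTop ((X ↘ SC).appTop ((Scheme.ΓSpecIso (CommRingCat.of ℂ)).inv c))) = c
  rw [← CategoryTheory.comp_apply ((X ↘ SC).appTop) x.1.appTop, ← Scheme.Hom.comp_appTop, x.2]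
  change (Scheme.ΓSpecIso (CommRingCat.of ℂ)).hom ((Scheme.ΓSpecIso (CommRingCat.of ℂ)).inv c) = c
  rw [← CategoryTheory.comp_apply, Iso.inv_hom_id]
  rfl

theorem evTop_eval₂ (x : Pts X) {σ : Type} (s : σ → Γ(X, ⊤)) (p : MvPolynomial σ ℂ) :
    x.evTop (MvPolynomial.eval₂Hom (strHom X) s p) = MvPolynomial.eval (fun i => x.evTop (s i)) p := by
  change (evTopHom x).comp (MvPolynomial.eval₂Hom (strHom X) s) p = _
  congr 1
  refine MvPolynomial.ringHom_ext (fun c => ?_) fun i => ?_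
  · simp only [RingHom.comp_apply, MvPolynomial.eval₂Hom_C, MvPolynomial.eval_C]
    exact evTop_strHom x c
  · simp only [RingHom.comp_apply, MvPolynomial.eval₂Hom_X', MvPolynomial.eval_X]
    rfl

theorem pt_mem_basicOpen_iff (x : Pts X) (h : Γ(X, ⊤)) :
    x.pt ∈ X.basicOpen h ↔ x.evTop h ≠ 0 := by
  refine ⟨fun hx h0 => ?_, fun h0 => ?_⟩
  · have hu := (X.toRingedSpace.isUnit_res_basicOpen h).map (evHom x (X.basicOpen h) hx)
    apply hu.ne_zero
    exact (ev_res x (X.basicOpen_le h) hx h).trans h0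
  · have hu : IsUnit (x.1.appTop h) := by
      have h1 : IsUnit ((Scheme.ΓSpecIso (CommRingCat.of ℂ)).hom (x.1.appTop h)) := by
        rw [← evTop_eq]; exact isUnit_iff_ne_zero.2 h0
      exact (isUnit_map_iff (Scheme.ΓSpecIso (CommRingCat.of ℂ)).commRingCatIsoToRingEquiv _).1 h1
    have h2 : cpt ∈ x.1 ⁻¹ᵁ X.basicOpen h := by
      rw [Scheme.Hom.preimage_basicOpen_top, Scheme.basicOpen_of_isUnit _ hu]
      trivial
    exact h2

variable [IsAffine X] {σ : Type} {s : σ → Γ(X, ⊤)}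
  (hs : Function.Surjective (MvPolynomial.eval₂Hom (strHom X) s))

include hs

theorem coords_injective : Function.Injective (fun (x : Pts X) (i : σ) => x.evTop (s i)) := by
  intro x y h
  refine Subtype.ext (ext_of_isAffine ?_)
  ext a
  obtain ⟨p, rfl⟩ := hs a
  apply (Scheme.ΓSpecIso (CommRingCat.of ℂ)).commRingCatIsoToRingEquiv.injective
  change (Scheme.ΓSpecIso (CommRingCat.of ℂ)).hom _ = (Scheme.ΓSpecIso (CommRingCat.of ℂ)).hom _
  rw [← evTop_eq, ← evTop_eq, evTop_eval₂, evTop_eval₂]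
  simp only at h
  rw [h]

theorem exists_pts_of_forall_eval_eq_zero (t : σ → ℂ)
    (ht : ∀ p, MvPolynomial.eval₂Hom (strHom X) s p = 0 → MvPolynomial.eval t p = 0) :
    ∃ x : Pts X, ∀ i, x.evTop (s i) = t i := by
  let φ : Γ(X, ⊤) →+* ℂ := (MvPolynomial.eval₂Hom (strHom X) s).liftOfSurjective hs
    ⟨MvPolynomial.eval t, fun p hp => ht p hp⟩
  have hφ : ∀ p, φ (MvPolynomial.eval₂Hom (strHom X) s p) = MvPolynomial.eval t p :=
    fun p => RingHom.liftOfRightInverse_comp_apply _ _ _ _ p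
  let x₀ : SC ⟶ X := Spec.map (CommRingCat.ofHom φ) ≫ X.isoSpec.inv
  have happ : x₀.appTop = CommRingCat.ofHom φ ≫ (Scheme.ΓSpecIso (CommRingCat.of ℂ)).inv := by
    have e : X.isoSpec.inv.appTop = (Scheme.ΓSpecIso Γ(X, ⊤)).inv := by
      haveI : IsIso X.isoSpec.hom.appTop :=
        inferInstanceAs (IsIso (Scheme.Γ.map X.isoSpec.hom.op))
      rw [← cancel_mono X.isoSpec.hom.appTop, ← Scheme.Hom.comp_appTop, Iso.hom_inv_id]
      simp [Scheme.isoSpec, Scheme.toSpecΓ_appTop]
    simp only [x₀, Scheme.Hom.comp_appTop, e]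
    exact (Scheme.ΓSpecIso_inv_naturality (CommRingCat.ofHom φ)).symm
  have hx : x₀ ≫ (X ↘ SC) = 𝟙 SC := by
    refine ext_of_isAffine ?_
    rw [Scheme.Hom.comp_appTop, happ, ← cancel_mono (Scheme.ΓSpecIso (CommRingCat.of ℂ)).hom,
      Category.assoc, Category.assoc, Iso.inv_hom_id, Category.comp_id,
      ← cancel_epi (Scheme.ΓSpecIso (CommRingCat.of ℂ)).inv]
    ext c
    refine Eq.trans (?_ : φ (strHom X c) = c) ?_
    · simpa using hφ (MvPolynomial.C c)
    · simp [← CategoryTheory.comp_apply]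
  refine ⟨⟨x₀, hx⟩, fun i => ?_⟩
  rw [evTop_eq]
  change ((x₀.appTop ≫ (Scheme.ΓSpecIso (CommRingCat.of ℂ)).hom)) (s i) = t i
  rw [happ, Category.assoc, Iso.inv_hom_id, Category.comp_id]
  simpa using hφ (MvPolynomial.X i)

theorem isClosed_range_coords :
    IsClosed (Set.range (fun (x : Pts X) (i : σ) => x.evTop (s i))) := by
  have h : Set.range (fun (x : Pts X) (i : σ) => x.evTop (s i)) =
      ⋂ p ∈ RingHom.ker (MvPolynomial.eval₂Hom (strHom X) s), {t | MvPolynomial.eval t p = 0} := by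
    ext t
    simp only [Set.mem_range, Set.mem_iInter₂, Set.mem_ofPred_eq, RingHom.mem_ker]
    refine ⟨?_, fun ht => ?_⟩
    · rintro ⟨x, rfl⟩ p hp
      rw [← evTop_eval₂, hp]
      exact map_zero (evTopHom x)
    · obtain ⟨x, hx⟩ := exists_pts_of_forall_eval_eq_zero hs t ht
      exact ⟨x, funext hx⟩
  rw [h]
  exact isClosed_biInter fun p _ => isClosed_eq (MvPolynomial.continuous_eval p) continuous_const

theorem isInducing_coords :
    Topology.IsInducing (fun (x : Pts X) (i : σ) => x.evTop (s i)) := by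
  set F := fun (x : Pts X) (i : σ) => x.evTop (s i)
  have hF : Continuous F := continuous_pi fun i => continuous_def.2 fun V hV => by
    have e : (fun x : Pts X => x.evTop (s i)) ⁻¹' V = basicSet ⊤ (s i) V := by
      ext x
      exact ⟨fun h => ⟨Opens.mem_top _, h⟩, fun ⟨_, h⟩ => h⟩
    rw [e]
    exact isOpen_basicSet _ _ hV
  refine ⟨le_antisymm hF.le_induced (le_generateFrom ?_)⟩
  rintro _ ⟨U, f, V, hV, rfl⟩
  letI := TopologicalSpace.induced F inferInstance
  rw [isOpen_iff_forall_mem_open]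
  rintro x ⟨hx, hxV⟩
  obtain ⟨h, hhU, hxh⟩ := (isAffineOpen_top X).exists_basicOpen_le ⟨x.pt, hx⟩ (Opens.mem_top _)
  haveI := (isAffineOpen_top X).isLocalization_basicOpen h
  obtain ⟨k, a, e⟩ := IsLocalization.Away.surj h (X.presheaf.map (homOfLE hhU).op f)
  rw [RingHom.algebraMap_toAlgebra] at e
  obtain ⟨pa, hpa⟩ := hs a
  obtain ⟨ph, hph⟩ := hs h
  have key : ∀ z : Pts X, ∀ hz : z.pt ∈ X.basicOpen h,
      z.ev U (hhU hz) f = MvPolynomial.eval (F z) pa / MvPolynomial.eval (F z) ph ^ k := by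
    intro z hz
    have e' := congrArg (evHom z (X.basicOpen h) hz) e
    rw [map_mul, map_pow, evHom_apply, evHom_apply, evHom_apply, ev_res] at e'
    change z.ev U _ f * (z.ev _ hz (X.presheaf.map (homOfLE (X.basicOpen_le h)).op h)) ^ k =
      z.ev _ hz (X.presheaf.map (homOfLE (X.basicOpen_le h)).op a) at e'
    rw [ev_res, ev_res] at e'
    rw [← evTop_eval₂, ← evTop_eval₂, hpa, hph, eq_div_iff
      (pow_ne_zero _ ((pt_mem_basicOpen_iff z h).1 hz))]
    exact e'
  refine ⟨F ⁻¹' {t | MvPolynomial.eval t ph ≠ 0 ∧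
      MvPolynomial.eval t pa / MvPolynomial.eval t ph ^ k ∈ V}, ?_, isOpen_induced ?_, ?_⟩
  · rintro z ⟨hz0, hzV⟩
    have hz : z.pt ∈ X.basicOpen h := by
      rw [pt_mem_basicOpen_iff, ← hph, evTop_eval₂]; exact hz0
    exact ⟨hhU hz, by rw [key z hz]; exact hzV⟩
  · have ho : IsOpen {t : σ → ℂ | MvPolynomial.eval t ph ≠ 0} :=
      isOpen_ne_fun (MvPolynomial.continuous_eval ph) continuous_const
    exact (((MvPolynomial.continuous_eval pa).continuousOn.div
      ((MvPolynomial.continuous_eval ph).pow k).continuousOn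
      (fun t ht => pow_ne_zero _ ht)).isOpen_inter_preimage ho hV)
  · refine ⟨?_, ?_⟩
    · rw [← evTop_eval₂, hph]; exact (pt_mem_basicOpen_iff x h).1 hxh
    · rw [← key x hxh]; exact hxV

theorem isClosedEmbedding_coords :
    Topology.IsClosedEmbedding (fun (x : Pts X) (i : σ) => x.evTop (s i)) :=
  ⟨⟨isInducing_coords hs, coords_injective hs⟩, isClosed_range_coords hs⟩

omit hs

/-- A finite family of generators of the algebra of functions of an affine scheme of finite type. -/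
theorem exists_generators (X : Scheme.{0}) [X.Over SC] [IsAffine X]
    [LocallyOfFiniteType (X ↘ SC)] :
    ∃ (n : ℕ) (s : Fin n → Γ(X, ⊤)),
      Function.Surjective (MvPolynomial.eval₂Hom (strHom X) s) := by
  letI : Algebra ℂ Γ(X, ⊤) := (strHom X).toAlgebra
  have h : (strHom X).FiniteType := by
    have h1 : (X ↘ SC).appTop.hom.FiniteType :=
      (HasRingHomProperty.iff_of_isAffine (P := @LocallyOfFiniteType)).1 inferInstance
    exact h1.comp (RingHom.FiniteType.of_surjective _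
      (Scheme.ΓSpecIso (CommRingCat.of ℂ)).commRingCatIsoToRingEquiv.symm.surjective)
  haveI : Algebra.FiniteType ℂ Γ(X, ⊤) := h
  obtain ⟨n, f, hf⟩ := Algebra.FiniteType.iff_quotient_mvPolynomial''.1 this
  refine ⟨n, fun i => f (MvPolynomial.X i), fun a => ?_⟩
  obtain ⟨p, rfl⟩ := hf a
  refine ⟨p, ?_⟩
  exact (DFunLike.congr_fun (MvPolynomial.aeval_unique f) p).symm

/-- Global functions on affine space are polynomials in the coordinates. -/
theorem coord_generators (n : ℕ) :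
    Function.Surjective (MvPolynomial.eval₂Hom (strHom (𝔸(Fin n; SC))) (AffineSpace.coord SC)) := by
  intro a
  haveI : IsIso (AffineSpace.isoOfIsAffine (Fin n) SC).hom.appTop :=
    inferInstanceAs (IsIso (Scheme.Γ.map (AffineSpace.isoOfIsAffine (Fin n) SC).hom.op))
  obtain ⟨b, hb⟩ := ((ConcreteCategory.isIso_iff_bijective
    (AffineSpace.isoOfIsAffine (Fin n) SC).hom.appTop).1 inferInstance).2 a
  rw [AffineSpace.isoOfIsAffine_hom_appTop] at hb
  refine ⟨MvPolynomial.map (Scheme.ΓSpecIso (CommRingCat.of ℂ)).hom.hom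
    ((Scheme.ΓSpecIso _).hom b), ?_⟩
  rw [MvPolynomial.eval₂Hom_map_hom, ← hb]
  change MvPolynomial.eval₂Hom _ _ _ = MvPolynomial.eval₂Hom _ _ ((Scheme.ΓSpecIso _).hom b)
  congr 2
  ext c
  change (𝔸(Fin n; SC) ↘ SC).appTop ((Scheme.ΓSpecIso (CommRingCat.of ℂ)).inv
    ((Scheme.ΓSpecIso (CommRingCat.of ℂ)).hom c)) = _
  rw [← CategoryTheory.comp_apply (Scheme.ΓSpecIso (CommRingCat.of ℂ)).hom, Iso.hom_inv_id]
  rfl

theorem coords_affineSpace_isHomeomorph (n : ℕ) :
    IsHomeomorph (fun (x : Pts (𝔸(Fin n; SC))) (i : Fin n) =>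
      x.evTop (AffineSpace.coord SC i)) := by
  have hs := coord_generators n
  have h := isClosedEmbedding_coords hs
  refine (h.isEmbedding.toHomeomorphOfSurjective fun t => ?_).isHomeomorph
  let v : Fin n → Γ(SC, ⊤) := fun i => (Scheme.ΓSpecIso (CommRingCat.of ℂ)).inv (t i)
  refine ⟨⟨AffineSpace.homOfVector (𝟙 SC) v, AffineSpace.homOfVector_over _ _⟩, funext fun i => ?_⟩
  rw [evTop_eq, AffineSpace.homOfVector_appTop_coord]
  change ((Scheme.ΓSpecIso (CommRingCat.of ℂ)).inv ≫ (Scheme.ΓSpecIso (CommRingCat.of ℂ)).hom) (t i) = t i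
  rw [Iso.inv_hom_id]
  rfl

/-- An open subscheme of a scheme over the complex numbers. -/
instance opensOver {X : Scheme.{0}} [X.Over SC] (U : X.Opens) : (U : Scheme).Over SC :=
  ⟨U.ι ≫ X ↘ SC⟩

instance opensιOver {X : Scheme.{0}} [X.Over SC] (U : X.Opens) : U.ι.IsOver SC := ⟨rfl⟩

instance opensLft {X : Scheme.{0}} [X.Over SC] [LocallyOfFiniteType (X ↘ SC)] (U : X.Opens) :
    LocallyOfFiniteType ((U : Scheme) ↘ SC) :=
  inferInstanceAs (LocallyOfFiniteType (U.ι ≫ X ↘ SC))

theorem exists_affine_nhd {X : Scheme.{0}} (p : X) : ∃ U : X.Opens, IsAffineOpen U ∧ p ∈ U := by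
  obtain ⟨U, hU, hp, -⟩ := exists_isAffineOpen_mem_and_subset (x := p) (U := ⊤) trivial
  exact ⟨U, hU, hp⟩

theorem locallyCompactSpace_affine (X : Scheme.{0}) [X.Over SC] [IsAffine X]
    [LocallyOfFiniteType (X ↘ SC)] : LocallyCompactSpace (Pts X) := by
  obtain ⟨n, s, hs⟩ := exists_generators X
  exact (isClosedEmbedding_coords hs).locallyCompactSpace

theorem locallyCompactSpace (X : Scheme.{0}) [X.Over SC] [LocallyOfFiniteType (X ↘ SC)] :
    LocallyCompactSpace (Pts X) := by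
  refine ⟨fun x N hN => ?_⟩
  obtain ⟨U, hU, hxU⟩ := exists_affine_nhd x.pt
  haveI : IsAffine (U : Scheme) := hU
  haveI := locallyCompactSpace_affine (U : Scheme)
  have ho := isOpenEmbedding_map U.ι
  obtain ⟨y, rfl⟩ : x ∈ Set.range (map U.ι) := by
    rw [range_map_of_injective U.ι U.ι.isOpenEmbedding.injective]
    simpa using hxU
  obtain ⟨K, hK, hKN, hKc⟩ := LocallyCompactSpace.local_compact_nhds y _
    (ho.continuous.continuousAt.preimage_mem_nhds hN)
  exact ⟨map U.ι '' K, ho.isOpenMap.image_mem_nhds hK, Set.image_subset_iff.2 hKN,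
    hKc.image ho.continuous⟩

end Groth.Agent.AnPts
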