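import Groth.Prelude.Def_AnPts
import Mathlib.AlgebraicGeometry.AlgClosed.Basic
import Mathlib.AlgebraicGeometry.Morphisms.Immersion
import Mathlib.AlgebraicGeometry.Morphisms.FiniteType
import Mathlib.Analysis.Complex.Polynomial.Basic
import Mathlib.AlgebraicGeometry.Morphisms.UniversallyInjective

/-! Basic properties of the complex points of a scheme locally of finite type over the complex
numbers: they are the closed points; monomorphisms which are preimmersions give embeddings. -/

open AlgebraicGeometry CategoryTheory TopologicalSpace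

noncomputable section

namespace Groth.Agent.AnPts

open An An.Pts

variable {X Y : Scheme.{0}} [X.Over SC] [Y.Over SC]

/-- Evaluation at a complex point, as a ring homomorphism. -/
def evHom (x : Pts X) (U : X.Opens) (h : x.pt ∈ U) : Γ(X, U) →+* ℂ :=
  (Scheme.ΓSpecIso (CommRingCat.of ℂ)).hom.hom.comp (x.1.appLE U ⊤ (top_le_preimage x h)).hom

theorem evHom_apply (x : Pts X) (U : X.Opens) (h : x.pt ∈ U) (f : Γ(X, U)) :
    evHom x U h f = x.ev U h f := rfl

theorem ev_res (x : Pts X) {V U : X.Opens} (i : V ≤ U) (h : x.pt ∈ V) (f : Γ(X, U)) :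
    x.ev V h (X.presheaf.map (homOfLE i).op f) = x.ev U (i h) f := by
  change (Scheme.ΓSpecIso (CommRingCat.of ℂ)).hom
      ((X.presheaf.map (homOfLE i).op ≫ x.1.appLE V ⊤ (top_le_preimage x h)) f) = _
  rw [Scheme.Hom.map_appLE]
  rfl

theorem ev_res_eq (x : Pts X) {W U V : X.Opens} (iU : W ≤ U) (iV : W ≤ V) (h : x.pt ∈ W)
    {f : Γ(X, U)} {g : Γ(X, V)}
    (e : X.presheaf.map (homOfLE iU).op f = X.presheaf.map (homOfLE iV).op g) :
    x.ev U (iU h) f = x.ev V (iV h) g := by
  rw [← ev_res x iU h, e, ev_res x iV h]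

variable [LocallyOfFiniteType (X ↘ SC)]

theorem jacobsonSpace (X : Scheme.{0}) [X.Over SC] [LocallyOfFiniteType (X ↘ SC)] :
    JacobsonSpace ↥X := LocallyOfFiniteType.jacobsonSpace (X ↘ SC)

theorem pt_eq_closedPoint (x : Pts X) : x.pt = x.1 (IsLocalRing.closedPoint ℂ) := by
  rw [eq_cpt (IsLocalRing.closedPoint ℂ)]; rfl

theorem pt_mem_closedPoints (x : Pts X) : x.pt ∈ closedPoints X := by
  rw [pt_eq_closedPoint]
  exact (pointEquivClosedPoint (X ↘ SC) x).2

theorem pt_injective : Function.Injective (pt : Pts X → X) := fun x y h =>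
  Subtype.ext (ext_of_apply_closedPoint_eq (X ↘ SC) x.2 y.2
    (by rwa [← pt_eq_closedPoint, ← pt_eq_closedPoint]))

/-- The complex point attached to a closed point. -/
def ofClosed (p : X) (hp : IsClosed {p}) : Pts X :=
  ⟨pointOfClosedPoint (X ↘ SC) p hp, pointOfClosedPoint_comp _ _ _⟩

@[simp] theorem pt_ofClosed (p : X) (hp : IsClosed {p}) : (ofClosed p hp).pt = p :=
  pointOfClosedPoint_apply _ _ _ _

theorem range_pt : Set.range (pt : Pts X → X) = closedPoints X :=
  Set.Subset.antisymm (Set.range_subset_iff.2 pt_mem_closedPoints)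
    fun p hp => ⟨ofClosed p hp, pt_ofClosed p hp⟩

/-- A nonempty locally closed subset contains the point of a complex point. -/
theorem exists_pt_mem {S : Set X} (hS : IsLocallyClosed S) (hne : S.Nonempty) :
    ∃ x : Pts X, x.pt ∈ S := by
  haveI := jacobsonSpace X
  obtain ⟨p, hpS, hp⟩ := nonempty_inter_closedPoints hne hS
  exact ⟨ofClosed p hp, by simpa using hpS⟩

theorem eq_univ_of_isLocallyClosed {S : Set X} (hS : IsLocallyClosed S)
    (h : ∀ x : Pts X, x.pt ∈ S) : S = Set.univ := by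
  obtain ⟨U, Z, hU, hZ, rfl⟩ := hS
  by_contra hne
  obtain ⟨p, hp⟩ := Set.nonempty_compl.2 hne
  rw [Set.compl_inter] at hp
  rcases hp with hp | hp
  · obtain ⟨x, hx⟩ := exists_pt_mem (hU.isClosed_compl).isLocallyClosed ⟨p, hp⟩
    exact hx (h x).1
  · obtain ⟨x, hx⟩ := exists_pt_mem (hZ.isOpen_compl).isLocallyClosed ⟨p, hp⟩
    exact hx (h x).2

omit [LocallyOfFiniteType (X ↘ SC)] in
theorem map_eq_iff [LocallyOfFiniteType (Y ↘ SC)] (g : X ⟶ Y) [g.IsOver SC] (x : Pts X)
    (y : Pts Y) : map g x = y ↔ g x.pt = y.pt := by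
  rw [← pt_map]
  exact ⟨fun h => congrArg pt h, fun h => pt_injective h⟩

theorem range_map_of_injective [LocallyOfFiniteType (Y ↘ SC)] (g : X ⟶ Y) [g.IsOver SC]
    (hg : Function.Injective g) :
    Set.range (map g) = pt ⁻¹' Set.range g := by
  ext y
  refine ⟨fun ⟨x, hx⟩ => ⟨x.pt, (map_eq_iff g x y).1 hx⟩, fun ⟨p, hp⟩ => ?_⟩
  have hpc : IsClosed ({p} : Set X) := by
    have h : g ⁻¹' {y.pt} = {p} := by
      ext q
      simp only [Set.mem_preimage, Set.mem_singleton_iff, ← hp, hg.eq_iff]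
    rw [← h]
    exact (pt_mem_closedPoints y).preimage g.continuous
  exact ⟨ofClosed p hpc, (map_eq_iff g _ _).2 (by rw [pt_ofClosed, hp])⟩

omit [LocallyOfFiniteType (X ↘ SC)] in
/-- Preimmersions give inducing maps on complex points. -/
theorem isInducing_map (g : X ⟶ Y) [g.IsOver SC] [IsPreimmersion g] :
    Topology.IsInducing (map g) := by
  refine ⟨le_antisymm (continuous_map g).le_induced (le_generateFrom ?_)⟩
  rintro _ ⟨U, f, V, hV, rfl⟩
  letI := TopologicalSpace.induced (map g) inferInstance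
  rw [isOpen_iff_forall_mem_open]
  rintro x ⟨hx, hxV⟩
  obtain ⟨t, ht⟩ := g.stalkMap_surjective x.pt (X.presheaf.germ U x.pt hx f)
  obtain ⟨W, hW, a, rfl⟩ := Y.presheaf.exists_germ_eq t
  rw [Scheme.Hom.germ_stalkMap_apply] at ht
  obtain ⟨U', hxU', iW, iU, e⟩ := TopCat.Presheaf.germ_eq X.presheaf x.pt _ hx _ f ht
  obtain ⟨Wo, hWo, hWU'⟩ := g.isEmbedding.isInducing.isOpen_iff.1 U'.2
  let W' : Y.Opens := W ⊓ ⟨Wo, hWo⟩
  have hxW' : (map g x).pt ∈ W' := by
    rw [pt_map]
    exact ⟨hW, (Set.ext_iff.1 hWU' x.pt).2 hxU'⟩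
  refine ⟨map g ⁻¹' basicSet W' (Y.presheaf.map (homOfLE inf_le_left).op a) V, ?_,
    isOpen_induced (isOpen_basicSet _ _ hV), ⟨hxW', ?_⟩⟩
  · rintro z ⟨hz, hzV⟩
    have hz' : g z.pt ∈ W' := by rwa [← pt_map]
    have hzU' : z.pt ∈ U' := by
      change z.pt ∈ (U' : Set X)
      exact (Set.ext_iff.1 hWU' z.pt).1 hz'.2
    rw [ev_res, ev_map, ev_res_eq z iW.le iU.le hzU' e] at hzV
    exact ⟨iU.le hzU', hzV⟩
  · rw [ev_res, ev_map, ev_res_eq x iW.le iU.le hxU' e]
    exact hxV

theorem isEmbedding_map [LocallyOfFiniteType (Y ↘ SC)] (g : X ⟶ Y) [g.IsOver SC]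
    [IsPreimmersion g] : Topology.IsEmbedding (map g) :=
  ⟨isInducing_map g, fun _ _ h => pt_injective (g.isEmbedding.injective (by
    rw [← pt_map, ← pt_map, h]))⟩

theorem isOpenEmbedding_map [LocallyOfFiniteType (Y ↘ SC)] (g : X ⟶ Y) [g.IsOver SC]
    [IsOpenImmersion g] : Topology.IsOpenEmbedding (map g) :=
  ⟨isEmbedding_map g, by
    rw [range_map_of_injective g g.isOpenEmbedding.injective]
    exact g.isOpenEmbedding.isOpen_range.preimage continuous_pt⟩

theorem isClosedEmbedding_map [LocallyOfFiniteType (Y ↘ SC)] (g : X ⟶ Y) [g.IsOver SC]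
    [IsClosedImmersion g] : Topology.IsClosedEmbedding (map g) :=
  ⟨isEmbedding_map g, by
    rw [range_map_of_injective g g.isClosedEmbedding.injective]
    exact g.isClosedEmbedding.isClosed_range.preimage continuous_pt⟩

theorem isLocallyClosed_range_map [LocallyOfFiniteType (Y ↘ SC)] (g : X ⟶ Y) [g.IsOver SC]
    [IsImmersion g] : IsLocallyClosed (Set.range (map g)) := by
  rw [range_map_of_injective g g.isEmbedding.injective]
  exact (g.isLocallyClosed_range).preimage continuous_pt

end Groth.Agent.AnPts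

namespace Groth.Agent.AnPts

open An An.Pts Limits

variable {X Y S : Scheme.{0}} [X.Over SC] [Y.Over SC] [S.Over SC]

theorem locallyOfFiniteType_of_isOver [LocallyOfFiniteType (X ↘ SC)] (f : X ⟶ Y) [f.IsOver SC] :
    LocallyOfFiniteType f := by
  haveI : LocallyOfFiniteType (f ≫ Y ↘ SC) := by rw [comp_over f]; infer_instance
  exact AlgebraicGeometry.locallyOfFiniteType_of_comp f (Y ↘ SC)

instance locallyOfFiniteType_pullback [LocallyOfFiniteType (X ↘ SC)] [LocallyOfFiniteType (Y ↘ SC)]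
    (f : X ⟶ S) (g : Y ⟶ S) [f.IsOver SC] [g.IsOver SC] :
    LocallyOfFiniteType (pullback f g ↘ SC) := by
  haveI := locallyOfFiniteType_of_isOver g
  change LocallyOfFiniteType (pullback.fst f g ≫ X ↘ SC)
  infer_instance

theorem pt_diagonal_mem {f : X ⟶ S} [f.IsOver SC] (z : Pts (pullback f f))
    (h : map (pullback.fst f f) z = map (pullback.snd f f) z) :
    (pullback.diagonal f) (map (pullback.fst f f) z).pt = z.pt := by
  have e : z.1 = (map (pullback.fst f f) z).1 ≫ pullback.diagonal f := by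
    apply pullback.hom_ext
    · rw [Category.assoc, pullback.diagonal_fst, Category.comp_id]; rfl
    · rw [Category.assoc, pullback.diagonal_snd, Category.comp_id]
      exact (congrArg Subtype.val h).symm
  change _ = z.1 cpt
  rw [e]
  rfl

theorem universallyInjective_of_injective_map [LocallyOfFiniteType (X ↘ SC)] (f : X ⟶ S)
    [f.IsOver SC] (h : Function.Injective (map f)) : UniversallyInjective f := by
  rw [UniversallyInjective.iff_diagonal, surjective_iff, ← Set.range_eq_univ]
  refine eq_univ_of_isLocallyClosed (pullback.diagonal f).isLocallyClosed_range fun z => ?_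
  exact ⟨_, pt_diagonal_mem z (h (map_pullback_condition f f z))⟩

end Groth.Agent.AnPts
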