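import Mathlib.RingTheory.NoetherNormalization
import Mathlib.RingTheory.Nullstellensatz
import Mathlib.RingTheory.Jacobson.Ring
import Mathlib.FieldTheory.Minpoly.IsIntegrallyClosed
import Mathlib.RingTheory.Ideal.GoingUp
import Mathlib.Algebra.MvPolynomial.Funext
import Mathlib.Analysis.Complex.Polynomial.Basic
import Mathlib.Topology.Algebra.MvPolynomial
import Mathlib.RingTheory.Polynomial.UniqueFactorization
import Mathlib.RingTheory.UniqueFactorizationDomain.GCDMonoid
import Mathlib.RingTheory.Localization.FractionRing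
import Mathlib.RingTheory.Polynomial.RationalRoot

/-! Over the complex numbers, a nonzero function on an affine variety does not vanish near any
given complex point (for the classical topology). -/

open Polynomial Filter Topology

noncomputable section

namespace Groth.Agent.AnPts.Near

variable {A : Type} [CommRing A] [Algebra ℂ A]

/-- Values at roots of a monic polynomial are bounded by the coefficients. -/
theorem norm_root_le {p : ℂ[X]} (hp : p.Monic) {z : ℂ} (hz : p.eval z = 0) :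
    ‖z‖ ≤ 1 + ∑ i ∈ Finset.range p.natDegree, ‖p.coeff i‖ := by
  rcases le_or_gt ‖z‖ 1 with h | h
  · exact h.trans (le_add_of_nonneg_right (Finset.sum_nonneg fun i _ => norm_nonneg _))
  rcases Nat.eq_zero_or_pos p.natDegree with hd | hd
  · rw [hp.natDegree_eq_zero.1 hd] at hz
    simp at hz
  have he : z ^ p.natDegree = - ∑ i ∈ Finset.range p.natDegree, p.coeff i * z ^ i := by
    rw [eval_eq_sum_range, Finset.sum_range_succ, hp.coeff_natDegree, one_mul] at hz
    linear_combination hz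
  have h1 : ‖z‖ ^ p.natDegree ≤
      (∑ i ∈ Finset.range p.natDegree, ‖p.coeff i‖) * ‖z‖ ^ (p.natDegree - 1) := by
    calc ‖z‖ ^ p.natDegree = ‖z ^ p.natDegree‖ := (norm_pow _ _).symm
      _ = ‖∑ i ∈ Finset.range p.natDegree, p.coeff i * z ^ i‖ := by rw [he, norm_neg]
      _ ≤ ∑ i ∈ Finset.range p.natDegree, ‖p.coeff i * z ^ i‖ := norm_sum_le _ _
      _ ≤ ∑ i ∈ Finset.range p.natDegree, ‖p.coeff i‖ * ‖z‖ ^ (p.natDegree - 1) :=
          Finset.sum_le_sum fun i hi => by
            rw [norm_mul, norm_pow]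
            exact mul_le_mul_of_nonneg_left
              (pow_le_pow_right₀ h.le (by have := Finset.mem_range.1 hi; omega)) (norm_nonneg _)
      _ = _ := (Finset.sum_mul _ _ _).symm
  have h2 : ‖z‖ ^ p.natDegree = ‖z‖ * ‖z‖ ^ (p.natDegree - 1) := by
    rw [← pow_succ', Nat.sub_add_cancel hd]
  rw [h2] at h1
  linarith [le_of_mul_le_mul_right h1 (pow_pos (lt_trans one_pos h) _)]

/-- A monic polynomial with a small constant coefficient has a small root. -/
theorem exists_small_root {p : ℂ[X]} (hp : p.Monic) (hd : 0 < p.natDegree) {δ : ℝ} (hδ : 0 < δ)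
    (h : ‖p.coeff 0‖ < δ ^ p.natDegree) : ∃ r : ℂ, p.eval r = 0 ∧ ‖r‖ < δ := by
  by_contra hne
  push Not at hne
  have hs : p.Splits := IsAlgClosed.splits p
  have hc : ‖p.coeff 0‖ = (p.roots.map fun r => ‖r‖).prod := by
    rw [hs.coeff_zero_eq_prod_roots_of_monic hp, norm_mul, norm_pow, norm_neg, norm_one, one_pow,
      one_mul]
    exact map_multiset_prod (normHom (α := ℂ)).toMonoidHom _
  have hcard : p.roots.card = p.natDegree := hs.natDegree_eq_card_roots.symm
  have hle : δ ^ p.natDegree ≤ (p.roots.map fun r => ‖r‖).prod := by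
    rw [← hcard, ← Multiset.prod_replicate, ← Multiset.map_const']
    refine Multiset.prod_map_le_prod_map₀ _ _ (fun r _ => hδ.le) fun r hr => ?_
    exact hne r (isRoot_of_mem_roots hr)
  linarith

/-- An ideal maximal in a finitely generated complex algebra gives a point. -/
theorem exists_algHom_of_isMaximal [Algebra.FiniteType ℂ A] (M : Ideal A) [M.IsMaximal] :
    ∃ ψ : A →ₐ[ℂ] ℂ, ∀ a ∈ M, ψ a = 0 := by
  letI : Field (A ⧸ M) := Ideal.Quotient.field M
  haveI : Algebra.FiniteType ℂ (A ⧸ M) :=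
    Algebra.FiniteType.of_surjective (Ideal.Quotient.mkₐ ℂ M) Ideal.Quotient.mk_surjective
  haveI := finite_of_finite_type_of_isJacobsonRing ℂ (A ⧸ M)
  have hb : Function.Bijective (algebraMap ℂ (A ⧸ M)) :=
    IsAlgClosed.algebraMap_bijective_of_isIntegral
  let e : ℂ ≃ₐ[ℂ] A ⧸ M := AlgEquiv.ofBijective (Algebra.ofId ℂ (A ⧸ M)) hb
  refine ⟨e.symm.toAlgHom.comp (Ideal.Quotient.mkₐ ℂ M), fun a ha => ?_⟩
  simp [Ideal.Quotient.eq_zero_iff_mem.2 ha]

section Fibre

variable {d : ℕ} [Algebra (MvPolynomial (Fin d) ℂ) A] [IsScalarTower ℂ (MvPolynomial (Fin d) ℂ) A]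
  [Module.Finite (MvPolynomial (Fin d) ℂ) A]


/-- The points over a point of the base. -/
def fibre (t : Fin d → ℂ) : Set (A →ₐ[ℂ] ℂ) :=
  {ψ | ∀ r : (MvPolynomial (Fin d) ℂ), ψ (algebraMap (MvPolynomial (Fin d) ℂ) A r) = MvPolynomial.eval t r}

theorem aeval_eq_zero_apply {t : Fin d → ℂ} {ψ : A →ₐ[ℂ] ℂ} (hψ : ψ ∈ fibre t) {b : A} {Q : (MvPolynomial (Fin d) ℂ)[X]}
    (hQ : aeval b Q = 0) : (Q.map (MvPolynomial.eval t)).eval (ψ b) = 0 := by
  have h := congrArg ψ hQ
  rw [map_zero, aeval_def, ← AlgHom.coe_toRingHom, hom_eval₂] at h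
  rw [eval_map]
  refine Eq.trans ?_ h
  congr 1
  ext r <;> exact (hψ _).symm

theorem fibre_finite (t : Fin d → ℂ) : (fibre (A := A) t).Finite := by
  classical
  obtain ⟨S, hS⟩ := (Module.Finite.fg_top : (⊤ : Submodule (MvPolynomial (Fin d) ℂ) A).FG)
  have hint : ∀ b : A, ∃ Q : (MvPolynomial (Fin d) ℂ)[X], Q.Monic ∧ aeval b Q = 0 := fun b =>
    Algebra.IsIntegral.isIntegral b
  choose Q hQm hQ0 using hint
  refine Set.Finite.of_finite_image (f := fun ψ (s : S) => ψ s.1) ?_ ?_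
  · refine Set.Finite.subset (Set.Finite.pi' fun s : S =>
      (((Q s.1).map (MvPolynomial.eval t)).roots.toFinset.finite_toSet)) ?_
    rintro _ ⟨ψ, hψ, rfl⟩ s
    simp only [Finset.mem_coe, Multiset.mem_toFinset, mem_roots', ne_eq, IsRoot.def]
    exact ⟨((hQm _).map _).ne_zero, aeval_eq_zero_apply hψ (hQ0 _)⟩
  · intro ψ hψ ψ' hψ' h
    ext b
    have hb : b ∈ Submodule.span (MvPolynomial (Fin d) ℂ) (S : Set A) := hS ▸ Submodule.mem_top
    induction hb using Submodule.span_induction with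
    | mem x hx => exact congrFun h ⟨x, hx⟩
    | zero => simp
    | add x y _ _ hx hy => simp [hx, hy]
    | smul r x _ hx => rw [Algebra.smul_def, map_mul, map_mul, hψ r, hψ' r, hx]

/-- A function vanishing at a given point and at no other point of its fibre. -/
theorem exists_separating {t : Fin d → ℂ} {φ : A →ₐ[ℂ] ℂ} :
    ∃ a : A, φ a = 0 ∧ ∀ ψ ∈ fibre t, ψ a = 0 → ψ = φ := by
  classical
  let T := (fibre_finite (A := A) t).toFinset.erase φ
  have hne : ∀ ψ : T, ∃ a : A, ψ.1 a ≠ φ a := fun ψ => by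
    by_contra! h
    exact Finset.ne_of_mem_erase ψ.2 (AlgHom.ext h)
  choose a ha using hne
  let e : A := ∏ ψ : T, (φ (a ψ) - ψ.1 (a ψ))⁻¹ • (a ψ - algebraMap ℂ A (ψ.1 (a ψ)))
  have heφ : φ e = 1 := by
    rw [map_prod]
    refine Finset.prod_eq_one fun ψ _ => ?_
    simp only [map_smul, map_sub, AlgHom.commutes, smul_eq_mul, Algebra.algebraMap_self,
      RingHom.id_apply]
    exact inv_mul_cancel₀ (sub_ne_zero.2 (ha ψ).symm)
  refine ⟨1 - e, by rw [map_sub, map_one, heφ, sub_self], fun ψ hψ h => ?_⟩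
  by_contra hne
  have hmem : ψ ∈ T := Finset.mem_erase.2 ⟨hne, (fibre_finite t).mem_toFinset.2 hψ⟩
  have : ψ e = 0 := by
    rw [map_prod]
    refine Finset.prod_eq_zero (Finset.mem_univ (⟨ψ, hmem⟩ : T)) ?_
    simp
  simp [this] at h

variable [IsDomain A] [FaithfulSMul (MvPolynomial (Fin d) ℂ) A] [Algebra.FiniteType ℂ A]

/-- Roots of the minimal polynomial lift to points. -/
theorem exists_lift (a : A) (t : Fin d → ℂ) (r : ℂ)
    (hr : ((minpoly (MvPolynomial (Fin d) ℂ) a).map (MvPolynomial.eval t)).eval r = 0) :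
    ∃ ψ ∈ fibre t, ψ a = r := by
  have ha : IsIntegral (MvPolynomial (Fin d) ℂ) a := Algebra.IsIntegral.isIntegral a
  have hker : ∀ Q : (MvPolynomial (Fin d) ℂ)[X], aeval a Q = 0 → (Q.map (MvPolynomial.eval t)).eval r = 0 := fun Q hQ => by
    obtain ⟨c, rfl⟩ := minpoly.isIntegrallyClosed_dvd ha hQ
    rw [Polynomial.map_mul, eval_mul, hr, zero_mul]
  let S := (aeval (R := (MvPolynomial (Fin d) ℂ)) a).range
  let h : S →+* ℂ := ((aeval (R := (MvPolynomial (Fin d) ℂ)) a).rangeRestrict.toRingHom).liftOfSurjective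
    (AlgHom.rangeRestrict_surjective _) ⟨eval₂RingHom (MvPolynomial.eval t) r, fun Q hQ => by
      rw [RingHom.mem_ker, coe_eval₂RingHom, ← eval_map]
      exact hker Q (congrArg Subtype.val hQ)⟩
  have hh : ∀ Q : (MvPolynomial (Fin d) ℂ)[X], h ((aeval (R := (MvPolynomial (Fin d) ℂ)) a).rangeRestrict Q) = Q.eval₂ (MvPolynomial.eval t) r :=
    fun Q => RingHom.liftOfRightInverse_comp_apply _ _ _ _ Q
  have hsurj : Function.Surjective h := fun z =>
    ⟨(aeval (R := (MvPolynomial (Fin d) ℂ)) a).rangeRestrict (C (MvPolynomial.C z)), by rw [hh, eval₂_C, MvPolynomial.eval_C]⟩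
  haveI : (RingHom.ker h).IsMaximal := RingHom.ker_isMaximal_of_surjective h hsurj
  haveI : Algebra.IsIntegral S A := Algebra.IsIntegral.tower_top (R := (MvPolynomial (Fin d) ℂ))
  obtain ⟨M, hM, hMc⟩ := Ideal.exists_ideal_over_maximal_of_isIntegral (S := A) (RingHom.ker h)
    (by
      rw [(RingHom.injective_iff_ker_eq_bot (algebraMap S A)).1 Subtype.val_injective]
      exact bot_le)
  haveI := hM
  obtain ⟨ψ, hψ⟩ := exists_algHom_of_isMaximal M
  have key : ∀ Q : (MvPolynomial (Fin d) ℂ)[X], ψ (aeval a Q) = Q.eval₂ (MvPolynomial.eval t) r := fun Q => by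
    let z := Q.eval₂ (MvPolynomial.eval t) r
    have hm : (aeval (R := (MvPolynomial (Fin d) ℂ)) a).rangeRestrict (Q - C (MvPolynomial.C z)) ∈ RingHom.ker h := by
      rw [RingHom.mem_ker, hh, eval₂_sub, eval₂_C, MvPolynomial.eval_C, sub_self]
    rw [← hMc, Ideal.mem_comap] at hm
    have h0 : ψ (aeval a (Q - C (MvPolynomial.C z))) = 0 := hψ _ hm
    rw [map_sub, aeval_C, map_sub, sub_eq_zero] at h0
    rw [h0, ← MvPolynomial.algebraMap_eq, ← IsScalarTower.algebraMap_apply, AlgHom.commutes]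
    rfl
  exact ⟨ψ, fun s => by simpa using key (C s), by simpa using key X⟩

/-- A nonzero function is nonzero somewhere near any point. -/
theorem exists_near_aux {d : ℕ} [Algebra (MvPolynomial (Fin d) ℂ) A]
    [IsScalarTower ℂ (MvPolynomial (Fin d) ℂ) A] [Module.Finite (MvPolynomial (Fin d) ℂ) A]
    [FaithfulSMul (MvPolynomial (Fin d) ℂ) A] (φ : A →ₐ[ℂ] ℂ) {g : A} (hg : g ≠ 0) (F : Finset A) {ε : ℝ}
    (hε : 0 < ε) : ∃ ψ : A →ₐ[ℂ] ℂ, ψ g ≠ 0 ∧ ∀ b ∈ F, ‖ψ b - φ b‖ < ε := by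
  classical
  let t₀ : Fin d → ℂ := fun i => φ (algebraMap (MvPolynomial (Fin d) ℂ) A (MvPolynomial.X i))
  have hφ : φ ∈ fibre t₀ := fun r => by
    have e : φ.comp (IsScalarTower.toAlgHom ℂ (MvPolynomial (Fin d) ℂ) A) = MvPolynomial.aeval t₀ :=
      MvPolynomial.algHom_ext fun i => by simp [t₀]
    exact DFunLike.congr_fun e r
  obtain ⟨a, ha0, hasep⟩ := exists_separating (A := A) (t := t₀) (φ := φ)
  have hai : IsIntegral (MvPolynomial (Fin d) ℂ) a := Algebra.IsIntegral.isIntegral a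
  set P := minpoly (MvPolynomial (Fin d) ℂ) a with hP
  have hPm : P.Monic := minpoly.monic hai
  have hPd : 0 < P.natDegree := minpoly.natDegree_pos hai
  have hint : ∀ b : A, ∃ Q : (MvPolynomial (Fin d) ℂ)[X], Q.Monic ∧ aeval b Q = 0 := fun b =>
    Algebra.IsIntegral.isIntegral b
  choose Q hQm hQ0 using hint
  let Bd : A → (Fin d → ℂ) → ℝ := fun b t =>
    1 + ∑ i ∈ Finset.range (Q b).natDegree, ‖MvPolynomial.eval t ((Q b).coeff i)‖
  have hBd : ∀ b t, ∀ ψ ∈ fibre t, ‖ψ b‖ ≤ Bd b t := fun b t ψ hψ => by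
    have h := norm_root_le ((hQm b).map (MvPolynomial.eval t)) (aeval_eq_zero_apply hψ (hQ0 b))
    simpa [Bd, (hQm b).natDegree_map, coeff_map] using h
  have hBdc : ∀ b, Continuous (Bd b) := fun b => continuous_const.add
    (continuous_finsetSum _ fun i _ => (MvPolynomial.continuous_eval _).norm)
  -- each `b - φ b` has a power in the ideal of the point
  let Gen : Option (Fin d) → A := fun o => o.elim a
    (fun i => algebraMap (MvPolynomial (Fin d) ℂ) A (MvPolynomial.X i) - algebraMap ℂ A (t₀ i))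
  have hrad : ∀ b : A, ∃ N : ℕ, 0 < N ∧
      (b - algebraMap ℂ A (φ b)) ^ N ∈ Ideal.span (Set.range Gen) := fun b => by
    haveI : IsJacobsonRing A := isJacobsonRing_of_finiteType (A := ℂ)
    have hb : b - algebraMap ℂ A (φ b) ∈ (Ideal.span (Set.range Gen)).radical := by
      rw [Ideal.radical_eq_jacobson, Ideal.jacobson, Ideal.mem_sInf]
      rintro M ⟨hGM, hM⟩
      haveI := hM
      obtain ⟨ψ, hψ⟩ := exists_algHom_of_isMaximal M
      have hψG : ∀ o, ψ (Gen o) = 0 := fun o => hψ _ (hGM (Ideal.subset_span ⟨o, rfl⟩))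
      have hψt : ψ ∈ fibre t₀ := fun r => by
        have e : ψ.comp (IsScalarTower.toAlgHom ℂ (MvPolynomial (Fin d) ℂ) A) =
            MvPolynomial.aeval t₀ := MvPolynomial.algHom_ext fun i => by
          have := hψG (some i)
          simp only [Gen, Option.elim_some, map_sub, AlgHom.commutes, sub_eq_zero] at this
          simpa using this
        exact DFunLike.congr_fun e r
      have e : ψ = φ := hasep ψ hψt (hψG none)
      subst e
      have hker : RingHom.ker ψ.toRingHom = M :=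
        (hM.eq_of_le (RingHom.ker_ne_top ψ.toRingHom) fun x hx => RingHom.mem_ker.2 (hψ x hx)).symm
      rw [← hker, RingHom.mem_ker]
      simp
    obtain ⟨N, hN⟩ := hb
    exact ⟨N + 1, N.succ_pos, by rw [pow_succ]; exact Ideal.mul_mem_right _ _ hN⟩
  choose N hN hNmem using hrad
  have hcomb : ∀ b : A, ∃ c : Option (Fin d) → A,
      ∑ o, c o * Gen o = (b - algebraMap ℂ A (φ b)) ^ N b := fun b =>
    (Ideal.mem_span_range_iff_exists_fun).1 (hNmem b)
  choose c hc using hcomb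
  -- the value of the generators near the point
  have hE : ∀ b ∈ F, ∀ᶠ p : (Fin d → ℂ) × ℂ in 𝓝 (t₀, 0),
      (Bd (c b none) p.1 * ‖p.2‖ + ∑ i, Bd (c b (some i)) p.1 * ‖p.1 i - t₀ i‖) < ε ^ N b := by
    intro b _
    have hcont : Continuous fun p : (Fin d → ℂ) × ℂ =>
        Bd (c b none) p.1 * ‖p.2‖ + ∑ i, Bd (c b (some i)) p.1 * ‖p.1 i - t₀ i‖ := by
      refine (((hBdc _).comp continuous_fst).mul continuous_snd.norm).add
        (continuous_finsetSum _ fun i _ => ?_)
      exact ((hBdc _).comp continuous_fst).mul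
        (((continuous_apply i).comp continuous_fst).sub continuous_const).norm
    refine hcont.continuousAt.eventually_lt continuousAt_const ?_
    simp [pow_pos hε]
  have hall : ∀ᶠ p : (Fin d → ℂ) × ℂ in 𝓝 (t₀, 0), ∀ b ∈ F,
      (Bd (c b none) p.1 * ‖p.2‖ + ∑ i, Bd (c b (some i)) p.1 * ‖p.1 i - t₀ i‖) < ε ^ N b :=
    (Finset.eventually_all F).2 hE
  obtain ⟨η, hη, hball⟩ := Metric.eventually_nhds_iff_ball.1 hall
  -- choice of the base point
  have hP0 : MvPolynomial.eval t₀ (P.coeff 0) = 0 := by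
    have h := aeval_eq_zero_apply hφ (minpoly.aeval (MvPolynomial (Fin d) ℂ) a)
    rwa [ha0, ← coeff_zero_eq_eval_zero, coeff_map] at h
  have hsmall : ∀ᶠ t in 𝓝 t₀, ‖MvPolynomial.eval t (P.coeff 0)‖ < η ^ P.natDegree := by
    refine ((MvPolynomial.continuous_eval _).norm).continuousAt.eventually_lt continuousAt_const ?_
    rw [hP0, norm_zero]
    exact pow_pos hη _
  obtain ⟨η', hη', hball'⟩ := Metric.eventually_nhds_iff_ball.1 hsmall
  obtain ⟨h, hhg, hh0⟩ : ∃ h : MvPolynomial (Fin d) ℂ,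
      algebraMap _ A h ∈ Ideal.span {g} ∧ h ≠ 0 := by
    obtain ⟨h, hh, hh0⟩ := Submodule.exists_mem_ne_zero_of_ne_bot
      (Ideal.comap_ne_bot_of_integral_mem (R := MvPolynomial (Fin d) ℂ) hg
        (Ideal.mem_span_singleton_self g) (Algebra.IsIntegral.isIntegral g))
    exact ⟨h, hh, hh0⟩
  obtain ⟨t, ht, hht⟩ : ∃ t : Fin d → ℂ,
      (∀ i, t i ∈ Metric.ball (t₀ i) (min η η')) ∧ MvPolynomial.eval t h ≠ 0 := by
    by_contra! hall'
    refine hh0 (MvPolynomial.funext_set (fun i => Metric.ball (t₀ i) (min η η')) (fun i => ?_)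
      fun x hx => by rw [map_zero]; exact hall' x fun i => hx i trivial)
    exact infinite_of_mem_nhds (t₀ i) (Metric.ball_mem_nhds _ (lt_min hη hη'))
  have htd : dist t t₀ < min η η' := (dist_pi_lt_iff (lt_min hη hη')).2 ht
  obtain ⟨r, hr, hrη⟩ := exists_small_root (hPm.map (MvPolynomial.eval t))
    (by rwa [hPm.natDegree_map]) hη (by
      rw [coeff_map, hPm.natDegree_map]
      exact hball' t (lt_of_lt_of_le htd (min_le_right _ _)))
  obtain ⟨ψ, hψt, hψa⟩ := exists_lift a t r hr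
  refine ⟨ψ, fun hg0 => hht ?_, fun b hb => ?_⟩
  · obtain ⟨u, hu⟩ := Ideal.mem_span_singleton'.1 hhg
    rw [← hψt h, ← hu, map_mul, hg0, mul_zero]
  · have hp : (t, r) ∈ Metric.ball (t₀, (0 : ℂ)) η := by
      rw [Metric.mem_ball, Prod.dist_eq, max_lt_iff, dist_zero_right]
      exact ⟨lt_of_lt_of_le htd (min_le_left _ _), hrη⟩
    have hlt := hball _ hp b hb
    have hGen : ψ (Gen none) = r ∧ ∀ i, ψ (Gen (some i)) = t i - t₀ i := by
      refine ⟨hψa, fun i => ?_⟩
      simp only [Gen, Option.elim_some, map_sub, AlgHom.commutes, hψt _, MvPolynomial.eval_X]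
      rfl
    have key : ‖ψ b - φ b‖ ^ N b < ε ^ N b := by
      refine lt_of_le_of_lt ?_ hlt
      have e := congrArg ψ (hc b)
      rw [map_pow, map_sub, AlgHom.commutes, map_sum, Fintype.sum_option] at e
      rw [← norm_pow]
      change ‖(ψ b - algebraMap ℂ ℂ (φ b)) ^ N b‖ ≤ _
      rw [← e, map_mul, hGen.1]
      refine (norm_add_le _ _).trans (add_le_add ?_ ((norm_sum_le _ _).trans
        (Finset.sum_le_sum fun i _ => ?_)))
      · rw [norm_mul]
        exact mul_le_mul_of_nonneg_right (hBd _ t ψ hψt) (norm_nonneg _)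
      · rw [map_mul, hGen.2, norm_mul]
        exact mul_le_mul_of_nonneg_right (hBd _ t ψ hψt) (norm_nonneg _)
    exact lt_of_pow_lt_pow_left₀ _ hε.le key

end Fibre

/-- A nonzero function on an affine variety is nonzero somewhere near any given point. -/
theorem exists_near [IsDomain A] [Algebra.FiniteType ℂ A] (φ : A →ₐ[ℂ] ℂ) {g : A} (hg : g ≠ 0)
    (F : Finset A) {ε : ℝ} (hε : 0 < ε) :
    ∃ ψ : A →ₐ[ℂ] ℂ, ψ g ≠ 0 ∧ ∀ b ∈ F, ‖ψ b - φ b‖ < ε := by
  obtain ⟨d, j, hj, hfin⟩ := exists_finite_inj_algHom_of_fg ℂ A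
  algebraize [j.toRingHom]
  haveI : IsScalarTower ℂ (MvPolynomial (Fin d) ℂ) A :=
    IsScalarTower.of_algebraMap_eq fun x => (j.commutes x).symm
  haveI : Module.Finite (MvPolynomial (Fin d) ℂ) A := hfin
  haveI : FaithfulSMul (MvPolynomial (Fin d) ℂ) A := (faithfulSMul_iff_algebraMap_injective _ _).2 hj
  exact exists_near_aux (d := d) φ hg F hε

end Groth.Agent.AnPts.Near
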