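import Groth.Agent.AnPts.Dense
import Groth.Agent.AnPts.Conn.Alg

/-! Connectedness and complex points. -/

open AlgebraicGeometry CategoryTheory TopologicalSpace Limits

noncomputable section

namespace Groth.Agent.AnPts

open An An.Pts

theorem exists_preconnected_affine {X : Scheme.{0}} [X.Over SC] [IsAffine X]
    [LocallyOfFiniteType (X ↘ SC)] (η : X) :
    ∃ O : X.Opens, η ∈ O ∧
      IsPreconnected (pt ⁻¹' ((O : Set X) ∩ closure {η}) : Set (Pts X)) := by
  classical
  obtain ⟨n, s, hs⟩ := exists_generators X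
  letI : Algebra ℂ Γ(X, ⊤) := (strHom X).toAlgebra
  let P : Ideal Γ(X, ⊤) := RingHom.ker (X.evaluation ⊤ η (Opens.mem_top _)).hom
  have hP : ∀ b, b ∈ P ↔ η ∉ X.basicOpen b := fun b =>
    Scheme.evaluation_eq_zero_iff_notMem_basicOpen X η (Opens.mem_top _) b
  haveI : P.IsPrime := RingHom.ker_isPrime _
  haveI : Algebra.FiniteType ℂ Γ(X, ⊤) :=
    Algebra.FiniteType.of_surjective (MvPolynomial.aeval s) (fun a => by
      obtain ⟨p, hp⟩ := hs a
      exact ⟨p, hp⟩)
  haveI : Algebra.FiniteType ℂ (Γ(X, ⊤) ⧸ P) :=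
    Algebra.FiniteType.of_surjective (Ideal.Quotient.mkₐ ℂ P) Ideal.Quotient.mk_surjective
  obtain ⟨g', hg', hpre⟩ := Conn.exists_preconnected (fun i => Ideal.Quotient.mk P (s i))
  obtain ⟨g, rfl⟩ := Ideal.Quotient.mk_surjective g'
  have hηg : η ∈ X.basicOpen g := by
    by_contra h
    exact hg' (Ideal.Quotient.eq_zero_iff_mem.2 ((hP g).2 h))
  refine ⟨X.basicOpen g, hηg, (isInducing_coords hs).isPreconnected_image.1 ?_⟩
  convert hpre using 1
  ext z
  constructor
  · rintro ⟨x, ⟨hxg, hxη⟩, rfl⟩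
    let φ₀ : Γ(X, ⊤) →ₐ[ℂ] ℂ :=
      { toRingHom := evTopHom x
        commutes' := fun c => evTop_strHom x c }
    have hPφ : ∀ b ∈ P, φ₀.toRingHom b = 0 := fun b hb => by
      by_contra h
      exact (hP b).1 hb
        ((specializes_iff_mem_closure.2 hxη).mem_open (X.basicOpen b).2 ((pt_mem_basicOpen_iff x b).2 h))
    refine ⟨Ideal.Quotient.liftₐ P φ₀ hPφ, ?_, funext fun i => rfl⟩
    exact (pt_mem_basicOpen_iff x g).1 hxg
  · rintro ⟨ψ, hψg, rfl⟩
    let ψ₀ : Γ(X, ⊤) →ₐ[ℂ] ℂ := ψ.comp (Ideal.Quotient.mkₐ ℂ P)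
    have hev : ∀ p, ψ₀ (MvPolynomial.eval₂Hom (strHom X) s p) =
        MvPolynomial.eval (fun i => ψ₀ (s i)) p := fun p => by
      change ψ₀.comp (MvPolynomial.aeval s) p = MvPolynomial.aeval (fun i => ψ₀ (s i)) p
      congr 1
      exact MvPolynomial.algHom_ext fun i => by simp
    obtain ⟨y, hy⟩ := exists_pts_of_forall_eval_eq_zero hs (fun i => ψ₀ (s i))
      (fun p hp => by rw [← hev, hp, map_zero])
    have hyψ : ∀ b, y.evTop b = ψ₀ b := fun b => by
      obtain ⟨p, rfl⟩ := hs b
      rw [evTop_eval₂, hev]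
      simp only [hy]
    refine ⟨y, ⟨(pt_mem_basicOpen_iff y g).2 (by rw [hyψ]; exact hψg), ?_⟩, funext hy⟩
    rw [← specializes_iff_mem_closure, specializes_iff_forall_open]
    intro W hW hyW
    obtain ⟨b, hbW, hyb⟩ := (isAffineOpen_top X).exists_basicOpen_le (V := ⟨W, hW⟩) ⟨y.pt, hyW⟩
      (Opens.mem_top _)
    refine hbW ?_
    by_contra h
    have h0 : Ideal.Quotient.mk P b = 0 := Ideal.Quotient.eq_zero_iff_mem.2 ((hP b).2 h)
    refine (pt_mem_basicOpen_iff y b).1 hyb ?_
    rw [hyψ]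
    change ψ (Ideal.Quotient.mk P b) = 0
    rw [h0, map_zero]

variable {X : Scheme.{0}} [X.Over SC] [LocallyOfFiniteType (X ↘ SC)]

/-- The complex points of an irreducible closed set form a connected space. -/
theorem isPreconnected_preimage_closure (η : X) :
    IsPreconnected (pt ⁻¹' closure {η} : Set (Pts X)) := by
  obtain ⟨U, hU, hηU⟩ := exists_affine_nhd η
  haveI : IsAffine (U : Scheme) := hU
  obtain ⟨η', rfl⟩ : ∃ η' : (U : Scheme), U.ι η' = η := ⟨⟨η, hηU⟩, rfl⟩
  obtain ⟨O, hO, hpre⟩ := exists_preconnected_affine η'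
  have hcl : U.ι ⁻¹' closure {U.ι η'} = closure {η'} := by
    rw [U.ι.isOpenEmbedding.isInducing.closure_eq_preimage_closure_image, Set.image_singleton]
  let L : Set X := (U.ι '' (O : Set (U : Scheme))) ∩ closure {U.ι η'}
  have hOo : IsOpen (U.ι '' (O : Set (U : Scheme))) := U.ι.isOpenEmbedding.isOpenMap _ O.2
  have hL : IsLocallyClosed L := hOo.isLocallyClosed.inter isClosed_closure.isLocallyClosed
  have hηL : U.ι η' ∈ L := ⟨⟨_, hO, rfl⟩, subset_closure rfl⟩
  have e : (pt ⁻¹' L : Set (Pts X)) =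
      map U.ι '' (pt ⁻¹' ((O : Set (U : Scheme)) ∩ closure {η'})) := by
    ext x
    constructor
    · rintro ⟨⟨u, hu, hux⟩, hxη⟩
      obtain ⟨x', rfl⟩ : x ∈ Set.range (map U.ι) := by
        rw [range_map_of_injective U.ι U.ι.isOpenEmbedding.injective]; exact ⟨u, hux⟩
      rw [pt_map] at hux hxη
      obtain rfl := U.ι.isOpenEmbedding.injective hux
      exact ⟨x', ⟨hu, hcl ▸ hxη⟩, rfl⟩
    · rintro ⟨x', ⟨h1, h2⟩, rfl⟩
      rw [Set.mem_preimage, pt_map]
      rw [← hcl] at h2
      exact ⟨⟨_, h1, rfl⟩, h2⟩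
  refine (hpre.image (map U.ι) (continuous_map U.ι).continuousOn).subset_closure ?_ ?_
  · rw [← e]; exact Set.preimage_mono Set.inter_subset_right
  · rw [← e]
    exact fun x hx => mem_closure_of_isLocallyClosed hL
      (closure_mono (Set.singleton_subset_iff.2 hηL) hx)

/-- A set stable under specialisation and generalisation is open. -/
theorem isOpen_of_stable {T : Set X} (hT : ∀ p q : X, p ⤳ q → (p ∈ T ↔ q ∈ T)) : IsOpen T := by
  haveI := isLocallyNoetherian X
  refine isOpen_iff_forall_mem_open.2 fun p hp => ?_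
  obtain ⟨U, hU, hpU⟩ := exists_affine_nhd p
  haveI := IsLocallyNoetherian.component_noetherian (X := X) ⟨U, hU⟩
  haveI : IsAffine (U : Scheme) := hU
  haveI : IsNoetherian (U : Scheme) :=
    { toIsLocallyNoetherian := isLocallyNoetherian (U : Scheme) }
  obtain ⟨S, hSf, hSc, hSi, hS⟩ :=
    NoetherianSpace.exists_finite_set_isClosed_irreducible (isClosed_univ : IsClosed (Set.univ : Set (U : Scheme)))
  let W : Set (U : Scheme) := (⋃ Z ∈ {Z ∈ S | (⟨p, hpU⟩ : (U : Scheme)) ∉ Z}, Z)ᶜ
  have hW : IsOpen W :=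
    ((hSf.subset fun Z hZ => hZ.1).isClosed_biUnion fun Z hZ => hSc Z hZ.1).isOpen_compl
  refine ⟨U.ι '' W, ?_, U.ι.isOpenEmbedding.isOpenMap _ hW, ⟨⟨p, hpU⟩, ?_, rfl⟩⟩
  · rintro _ ⟨q, hq, rfl⟩
    obtain ⟨Z, hZ, hqZ⟩ := Set.mem_sUnion.1 (hS.le (Set.mem_univ q))
    have hpZ : (⟨p, hpU⟩ : (U : Scheme)) ∈ Z := by
      by_contra h
      exact hq (Set.mem_biUnion (x := Z) ⟨hZ, h⟩ hqZ)
    have hη := (hSi Z hZ).isGenericPoint_genericPoint_closure
    rw [(hSc Z hZ).closure_eq] at hη
    have h1 := (hη.specializes hqZ).map U.ι.continuous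
    have h2 := (hη.specializes hpZ).map U.ι.continuous
    exact ((hT _ _ h1).symm.trans (hT _ _ h2)).2 hp
  · simp only [W, Set.mem_compl_iff, Set.mem_iUnion₂, not_exists]
    exact fun Z hZ => hZ.2

/-- A clopen set of complex points comes from a clopen set. -/
theorem exists_isClopen_preimage {A : Set (Pts X)} (hA : IsClopen A) :
    ∃ T : Set X, IsClopen T ∧ pt ⁻¹' T = A := by
  haveI := jacobsonSpace X
  let T : Set X := {p | (pt ⁻¹' closure {p} : Set (Pts X)) ⊆ A}
  have hne : ∀ p : X, (pt ⁻¹' closure {p} : Set (Pts X)).Nonempty := fun p =>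
    exists_pt_mem isClosed_closure.isLocallyClosed ⟨p, subset_closure rfl⟩
  have hT : ∀ p q : X, p ⤳ q → (p ∈ T ↔ q ∈ T) := fun p q hpq => by
    have hsub : closure ({q} : Set X) ⊆ closure {p} :=
      isClosed_closure.closure_subset_iff.2 (Set.singleton_subset_iff.2 hpq.mem_closure)
    refine ⟨fun h => (Set.preimage_mono hsub).trans h, fun h => ?_⟩
    obtain ⟨x, hx⟩ := hne q
    exact (isPreconnected_preimage_closure p).subset_isClopen hA ⟨x, hsub hx, h hx⟩
  refine ⟨T, ⟨?_, isOpen_of_stable hT⟩, ?_⟩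
  · exact isOpen_compl_iff.1 (isOpen_of_stable fun p q hpq => not_congr (hT p q hpq))
  · ext x
    refine ⟨fun h => h (subset_closure rfl), fun hx => fun y hy => ?_⟩
    rw [Set.mem_preimage, (pt_mem_closedPoints x : IsClosed ({x.pt} : Set X)).closure_eq] at hy
    rwa [pt_injective hy]

theorem connectedSpace_iff : ConnectedSpace X ↔ ConnectedSpace (Pts X) := by
  haveI := jacobsonSpace X
  constructor
  · intro h
    haveI : Nonempty (Pts X) := by
      obtain ⟨x, -⟩ := exists_pt_mem (X := X) isClosed_univ.isLocallyClosed Set.univ_nonempty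
      exact ⟨x⟩
    refine connectedSpace_iff_clopen.2 ⟨inferInstance, fun A hA => ?_⟩
    obtain ⟨T, hT, rfl⟩ := exists_isClopen_preimage hA
    rcases isClopen_iff.1 hT with rfl | rfl
    · exact .inl rfl
    · exact .inr rfl
  · intro h
    haveI : Nonempty X := ⟨(Classical.arbitrary (Pts X)).pt⟩
    refine connectedSpace_iff_clopen.2 ⟨inferInstance, fun C hC => ?_⟩
    rcases isClopen_iff.1 (hC.preimage continuous_pt) with he | he
    · refine .inl (Set.not_nonempty_iff_eq_empty.1 fun hne => ?_)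
      obtain ⟨x, hx⟩ := exists_pt_mem hC.2.isLocallyClosed hne
      exact (Set.eq_empty_iff_forall_notMem.1 he) x hx
    · exact .inr (eq_univ_of_isLocallyClosed hC.2.isLocallyClosed fun x => by
        exact (Set.ext_iff.1 he x).2 trivial)

theorem isClopen_connectedComponent (p : X) : IsClopen (connectedComponent p) := by
  refine ⟨isClosed_connectedComponent, isOpen_of_stable fun q r hqr => ?_⟩
  have h : r ∈ connectedComponent q :=
    (isPreconnected_singleton.closure).subset_connectedComponent (subset_closure rfl) hqr.mem_closure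
  constructor
  · intro hq
    rwa [connectedComponent_eq hq]
  · intro hr
    rw [connectedComponent_eq hr, ← connectedComponent_eq h]
    exact mem_connectedComponent

theorem connectedComponentsMap_pt_bijective :
    Function.Bijective (continuous_pt (X := X)).connectedComponentsMap := by
  haveI := jacobsonSpace X
  constructor
  · intro a b hab
    obtain ⟨x, rfl⟩ := ConnectedComponents.surjective_coe a
    obtain ⟨y, rfl⟩ := ConnectedComponents.surjective_coe b
    have hxy : y.pt ∈ connectedComponent x.pt := by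
      rw [ConnectedComponents.coe_eq_coe.1 (hab : (x.pt : ConnectedComponents X) = y.pt)]
      exact mem_connectedComponent
    set C := connectedComponent x.pt
    have hC : IsClopen C := isClopen_connectedComponent x.pt
    have hpre : IsPreconnected (pt ⁻¹' C : Set (Pts X)) := by
      intro u v hu hv huv ⟨a, haC, hau⟩ ⟨b, hbC, hbv⟩
      by_contra hne
      rw [Set.not_nonempty_iff_eq_empty] at hne
      have hA : IsClopen (pt ⁻¹' C ∩ u : Set (Pts X)) := by
        refine ⟨isOpen_compl_iff.1 ?_, (hC.2.preimage continuous_pt).inter hu⟩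
        have e : (pt ⁻¹' C ∩ u : Set (Pts X))ᶜ = (pt ⁻¹' C ∩ v) ∪ (pt ⁻¹' C)ᶜ := by
          ext z
          simp only [Set.mem_compl_iff, Set.mem_inter_iff, Set.mem_union, not_and]
          refine ⟨fun h => (em (z ∈ pt ⁻¹' C)).imp
            (fun hz => ⟨hz, (huv hz).resolve_left (h hz)⟩) id, ?_⟩
          rintro (⟨hz, hzv⟩ | hz) hz' hzu
          · exact (Set.eq_empty_iff_forall_notMem.1 hne) z ⟨hz, hzu, hzv⟩
          · exact hz hz'
        rw [e]
        exact ((hC.2.preimage continuous_pt).inter hv).union (hC.1.preimage continuous_pt).isOpen_compl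
      obtain ⟨T, hT, hTA⟩ := exists_isClopen_preimage hA
      have haT : a.pt ∈ T := show a ∈ pt ⁻¹' T from hTA ▸ ⟨haC, hau⟩
      have hCT : C ⊆ T :=
        isPreconnected_connectedComponent.subset_isClopen hT ⟨a.pt, haC, haT⟩
      have hb : b ∈ pt ⁻¹' C ∩ u := hTA ▸ (hCT hbC : b ∈ pt ⁻¹' T)
      exact (Set.eq_empty_iff_forall_notMem.1 hne) b ⟨hbC, hb.2, hbv⟩
    exact ConnectedComponents.coe_eq_coe'.2
      (hpre.subset_connectedComponent (show y ∈ pt ⁻¹' C from hxy) (show x ∈ pt ⁻¹' C from mem_connectedComponent))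
  · intro c
    obtain ⟨p, rfl⟩ := ConnectedComponents.surjective_coe c
    obtain ⟨x, hx⟩ := exists_pt_mem (isClopen_connectedComponent p).2.isLocallyClosed
      ⟨p, mem_connectedComponent⟩
    exact ⟨(x : ConnectedComponents (Pts X)), ConnectedComponents.coe_eq_coe'.2 hx⟩

end Groth.Agent.AnPts
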