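import Groth.Agent.AnPts.Basic
import Mathlib.Topology.Constructible
import Mathlib.AlgebraicGeometry.Morphisms.FinitePresentation
import Mathlib.AlgebraicGeometry.Noetherian

/-! Constructible sets and complex points. -/

open AlgebraicGeometry CategoryTheory TopologicalSpace Topology

noncomputable section

namespace Groth.Agent.AnPts

open An An.Pts

/-- A nonempty constructible set contains a nonempty locally closed set. -/
theorem exists_isLocallyClosed_subset {T : Type*} [TopologicalSpace T] {s : Set T}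
    (hs : IsConstructible s) (hne : s.Nonempty) :
    ∃ L ⊆ s, IsLocallyClosed L ∧ L.Nonempty := by
  have key : s ∈ BooleanSubalgebra.closure {U : Set T | IsOpen U ∧ IsRetrocompact U} := hs
  have hsub : IsSublattice {U : Set T | IsOpen U ∧ IsRetrocompact U} :=
    ⟨fun a ha b hb => ⟨ha.1.union hb.1, ha.2.union hb.2⟩,
      fun a ha b hb => ⟨ha.1.inter hb.1, ha.2.inter_isOpen hb.2 hb.1⟩⟩
  have hbot : (⊥ : Set T) ∈ {U : Set T | IsOpen U ∧ IsRetrocompact U} :=
    ⟨isOpen_empty, IsRetrocompact.empty⟩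
  have htop : (⊤ : Set T) ∈ {U : Set T | IsOpen U ∧ IsRetrocompact U} :=
    ⟨isOpen_univ, IsRetrocompact.univ⟩
  rw [BooleanSubalgebra.mem_closure_iff_sup_sdiff hsub hbot htop] at key
  obtain ⟨t, rfl⟩ := key
  obtain ⟨p, hp⟩ := hne
  rw [Finset.sup_set_eq_biUnion] at hp ⊢
  obtain ⟨x, hx, hpx⟩ := Set.mem_iUnion₂.1 hp
  exact ⟨_, Set.subset_biUnion_of_mem (u := fun y => y.1.1 \ y.2.1) hx,
    x.1.2.1.isLocallyClosed.inter x.2.2.1.isClosed_compl.isLocallyClosed, ⟨p, hpx⟩⟩

theorem exists_isLocallyClosed_subset' {T : Type*} [TopologicalSpace T] {s : Set T}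
    (hs : IsLocallyConstructible s) (hne : s.Nonempty) :
    ∃ L ⊆ s, IsLocallyClosed L ∧ L.Nonempty := by
  obtain ⟨p, hp⟩ := hne
  obtain ⟨V, hV, hVo, hc⟩ := hs p
  obtain ⟨L, hLs, hL, hLne⟩ := exists_isLocallyClosed_subset hc ⟨⟨p, mem_of_mem_nhds hV⟩, hp⟩
  refine ⟨Subtype.val '' L, ?_, hL.image IsInducing.subtypeVal
    (by simpa using hVo.isLocallyClosed), hLne.image _⟩
  rintro _ ⟨q, hq, rfl⟩
  exact hLs hq

theorem isLocallyConstructible_compl {T : Type*} [TopologicalSpace T] {s : Set T}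
    (hs : IsLocallyConstructible s) : IsLocallyConstructible sᶜ := fun x => by
  obtain ⟨V, hV, hVo, hc⟩ := hs x
  exact ⟨V, hV, hVo, hc.compl⟩

variable {X Y : Scheme.{0}} [X.Over SC] [Y.Over SC]
  [LocallyOfFiniteType (X ↘ SC)] [LocallyOfFiniteType (Y ↘ SC)]

theorem exists_pt_mem_of_isLocallyConstructible {S : Set X} (hS : IsLocallyConstructible S)
    (hne : S.Nonempty) : ∃ x : Pts X, x.pt ∈ S := by
  obtain ⟨L, hLS, hL, hLne⟩ := exists_isLocallyClosed_subset' hS hne
  obtain ⟨x, hx⟩ := exists_pt_mem hL hLne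
  exact ⟨x, hLS hx⟩

instance isLocallyNoetherian_SC : IsLocallyNoetherian SC :=
  inferInstanceAs (IsLocallyNoetherian (Spec (CommRingCat.of ℂ)))

theorem isLocallyNoetherian (X : Scheme.{0}) [X.Over SC] [LocallyOfFiniteType (X ↘ SC)] :
    IsLocallyNoetherian X :=
  LocallyOfFiniteType.isLocallyNoetherian (X ↘ SC)

theorem locallyOfFinitePresentation_of_isOver (f : X ⟶ Y) [f.IsOver SC] :
    LocallyOfFinitePresentation f := by
  haveI := isLocallyNoetherian Y
  rw [LocallyOfFinitePresentation.iff_locallyOfFiniteType]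
  exact locallyOfFiniteType_of_isOver f

theorem isLocallyConstructible_range (f : X ⟶ Y) [f.IsOver SC] [QuasiCompact f] :
    IsLocallyConstructible (Set.range f) := by
  haveI := locallyOfFinitePresentation_of_isOver f
  rw [← Set.image_univ]
  exact f.isLocallyConstructible_image IsLocallyConstructible.univ

/-- Every point of a nonempty fibre over a complex point lifts. -/
theorem exists_map_eq (f : X ⟶ Y) [f.IsOver SC] (y : Pts Y) (hy : y.pt ∈ Set.range f) :
    ∃ x : Pts X, map f x = y := by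
  have hc : IsClosed ({y.pt} : Set Y) := pt_mem_closedPoints y
  obtain ⟨p, hp⟩ := hy
  obtain ⟨x, hx⟩ := exists_pt_mem (S := f ⁻¹' {y.pt})
    (hc.preimage f.continuous).isLocallyClosed ⟨p, hp⟩
  exact ⟨x, (map_eq_iff f x y).2 hx⟩

theorem range_map (f : X ⟶ Y) [f.IsOver SC] :
    Set.range (map f) = pt ⁻¹' Set.range f := by
  ext y
  exact ⟨fun ⟨x, hx⟩ => ⟨x.pt, (map_eq_iff f x y).1 hx⟩, exists_map_eq f y⟩

theorem surjective_map_iff (f : X ⟶ Y) [f.IsOver SC] [QuasiCompact f] :
    Function.Surjective f ↔ Function.Surjective (map f) := by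
  refine ⟨fun h y => exists_map_eq f y (h y.pt), fun h => ?_⟩
  rw [← Set.range_eq_univ, ← Set.compl_empty_iff]
  by_contra hne
  obtain ⟨y, hy⟩ := exists_pt_mem_of_isLocallyConstructible
    (isLocallyConstructible_compl (isLocallyConstructible_range f)) (Set.nonempty_iff_ne_empty.2 hne)
  obtain ⟨x, hx⟩ := h y
  exact hy ⟨x.pt, (map_eq_iff f x y).1 hx⟩

end Groth.Agent.AnPts
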