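import Groth.Agent.AnPts.Affine
import Mathlib.AlgebraicGeometry.Morphisms.Affine

/-! Complex points of a fibre product. -/

open AlgebraicGeometry CategoryTheory TopologicalSpace Limits

noncomputable section

namespace Groth.Agent.AnPts

open An An.Pts

variable {X Y S : Scheme.{0}} [X.Over SC] [Y.Over SC] [S.Over SC]
  (f : X ⟶ S) (g : Y ⟶ S) [f.IsOver SC] [g.IsOver SC]

/-- The map to the product of the complex points of the factors. -/
def prodMap (z : Pts (pullback f g)) : Pts X × Pts Y :=
  (map (pullback.fst f g) z, map (pullback.snd f g) z)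

theorem prodMap_injective : Function.Injective (prodMap f g) := fun z w h =>
  Subtype.ext (pullback.hom_ext (congrArg Subtype.val (congrArg Prod.fst h))
    (congrArg Subtype.val (congrArg Prod.snd h)))

theorem exists_prodMap_eq (a : Pts X) (b : Pts Y) (h : map f a = map g b) :
    ∃ z, prodMap f g z = (a, b) := by
  refine ⟨⟨pullback.lift a.1 b.1 (congrArg Subtype.val h), ?_⟩, ?_⟩
  · change pullback.lift a.1 b.1 (congrArg Subtype.val h) ≫ pullback.fst f g ≫ X ↘ SC = 𝟙 SC
    rw [← Category.assoc, pullback.lift_fst, a.2]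
  · exact Prod.ext (Subtype.ext (pullback.lift_fst _ _ _)) (Subtype.ext (pullback.lift_snd _ _ _))

theorem continuous_prodMap : Continuous (prodMap f g) :=
  (continuous_map _).prodMk (continuous_map _)

theorem strHom_comp {A B : Scheme.{0}} [A.Over SC] [B.Over SC] (h : A ⟶ B) [h.IsOver SC] :
    (Scheme.Hom.appTop h).hom.comp (strHom B) = strHom A := by
  rw [strHom, strHom, ← RingHom.comp_assoc, ← CommRingCat.hom_comp, ← Scheme.Hom.comp_appTop,
    comp_over h]

theorem isInducing_prodMap_affine [IsAffine X] [IsAffine Y] [IsAffine S]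
    [LocallyOfFiniteType (X ↘ SC)] [LocallyOfFiniteType (Y ↘ SC)] :
    Topology.IsInducing (prodMap f g) := by
  obtain ⟨m, s, hs⟩ := exists_generators X
  obtain ⟨n, t, ht⟩ := exists_generators Y
  have hpo := isPushout_appTop_of_isPullback (IsPullback.of_hasPullback f g)
  haveI : IsAffine (pullback f g) := IsAffine.of_isPullback (IsPullback.of_hasPullback f g)
  let u : Fin m ⊕ Fin n → Γ(pullback f g, ⊤) :=
    Sum.elim (fun i => (pullback.fst f g).appTop (s i)) (fun j => (pullback.snd f g).appTop (t j))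
  have hu : Function.Surjective (MvPolynomial.eval₂Hom (strHom (pullback f g)) u) := by
    let R := (MvPolynomial.eval₂Hom (strHom (pullback f g)) u).range
    have hfst : ∀ a, (pullback.fst f g).appTop.hom a ∈ R := fun a => by
      obtain ⟨p, rfl⟩ := hs a
      refine ⟨MvPolynomial.rename Sum.inl p, ?_⟩
      rw [MvPolynomial.eval₂Hom_rename, ← RingHom.comp_apply, MvPolynomial.comp_eval₂Hom, strHom_comp]
      rfl
    have hsnd : ∀ b, (pullback.snd f g).appTop.hom b ∈ R := fun b => by
      obtain ⟨p, rfl⟩ := ht b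
      refine ⟨MvPolynomial.rename Sum.inr p, ?_⟩
      rw [MvPolynomial.eval₂Hom_rename, ← RingHom.comp_apply, MvPolynomial.comp_eval₂Hom, strHom_comp]
      rfl
    let i₁ := CommRingCat.ofHom ((pullback.fst f g).appTop.hom.codRestrict R hfst)
    let i₂ := CommRingCat.ofHom ((pullback.snd f g).appTop.hom.codRestrict R hsnd)
    have hw : f.appTop ≫ i₁ = g.appTop ≫ i₂ := by
      ext a
      exact ConcreteCategory.congr_hom hpo.w a
    have hid : hpo.desc i₁ i₂ hw ≫ CommRingCat.ofHom R.subtype = 𝟙 _ := by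
      apply hpo.hom_ext
      · rw [← Category.assoc, hpo.inl_desc, Category.comp_id]; rfl
      · rw [← Category.assoc, hpo.inr_desc, Category.comp_id]; rfl
    intro a
    have := (hpo.desc i₁ i₂ hw a).2
    rwa [show ((hpo.desc i₁ i₂ hw a : R) : Γ(pullback f g, ⊤)) = a from
      ConcreteCategory.congr_hom hid a] at this
  let G : Pts X × Pts Y → (Fin m ⊕ Fin n → ℂ) := fun p =>
    Sum.elim (fun i => p.1.evTop (s i)) (fun j => p.2.evTop (t j))
  have hG : Continuous G := by
    refine continuous_pi fun k => ?_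
    cases k with
    | inl i => exact ((continuous_apply i).comp (isInducing_coords hs).continuous).comp continuous_fst
    | inr j => exact ((continuous_apply j).comp (isInducing_coords ht).continuous).comp continuous_snd
  have hGF : G ∘ prodMap f g = fun z k => z.evTop (u k) := by
    funext z k
    cases k with
    | inl i => exact ev_map (pullback.fst f g) z ⊤ (Opens.mem_top _) (s i)
    | inr j => exact ev_map (pullback.snd f g) z ⊤ (Opens.mem_top _) (t j)
  have := isInducing_coords hu
  rw [← hGF] at this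
  exact Topology.IsInducing.of_comp (continuous_prodMap f g) hG this

theorem isInducing_prodMap [LocallyOfFiniteType (X ↘ SC)] [LocallyOfFiniteType (Y ↘ SC)]
    [LocallyOfFiniteType (S ↘ SC)] :
    Topology.IsInducing (prodMap f g) := by
  refine ⟨le_antisymm (continuous_prodMap f g).le_induced (le_generateFrom ?_)⟩
  rintro B ⟨U₀, h₀, V₀, hV₀, rfl⟩
  refine (@isOpen_iff_forall_mem_open _
    (TopologicalSpace.induced (prodMap f g) inferInstance) (basicSet U₀ h₀ V₀)).2 fun z hz => ?_
  obtain ⟨W, hW, hzW⟩ := exists_affine_nhd (map f (map (pullback.fst f g) z)).pt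
  obtain ⟨U, hU, hzU, hUW⟩ := exists_isAffineOpen_mem_and_subset
    (x := (map (pullback.fst f g) z).pt) (U := f ⁻¹ᵁ W) (by
      change f (map (pullback.fst f g) z).pt ∈ W
      rwa [← pt_map])
  obtain ⟨V, hV, hzV, hVW⟩ := exists_isAffineOpen_mem_and_subset
    (x := (map (pullback.snd f g) z).pt) (U := g ⁻¹ᵁ W) (by
      change g (map (pullback.snd f g) z).pt ∈ W
      rw [← pt_map, ← map_pullback_condition]; exact hzW)
  haveI : IsAffine (U : Scheme) := hU
  haveI : IsAffine (V : Scheme) := hV
  haveI : IsAffine (W : Scheme) := hW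
  let f' : (U : Scheme) ⟶ W := f.resLE W U hUW
  let g' : (V : Scheme) ⟶ W := g.resLE W V hVW
  haveI : f'.IsOver SC := ⟨by
    change f' ≫ W.ι ≫ S ↘ SC = U.ι ≫ X ↘ SC
    rw [← Category.assoc, Scheme.Hom.resLE_comp_ι, Category.assoc, comp_over f]⟩
  haveI : g'.IsOver SC := ⟨by
    change g' ≫ W.ι ≫ S ↘ SC = V.ι ≫ Y ↘ SC
    rw [← Category.assoc, Scheme.Hom.resLE_comp_ι, Category.assoc, comp_over g]⟩
  let j : pullback f' g' ⟶ pullback f g := pullback.map f' g' f g U.ι V.ι W.ι
    (Scheme.Hom.resLE_comp_ι _ _) (Scheme.Hom.resLE_comp_ι _ _)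
  haveI : IsOpenImmersion j := inferInstance
  have e1 : j ≫ pullback.fst f g = pullback.fst f' g' ≫ U.ι := pullback.lift_fst _ _ _
  have e2 : j ≫ pullback.snd f g = pullback.snd f' g' ≫ V.ι := pullback.lift_snd _ _ _
  haveI : j.IsOver SC := ⟨by
    change j ≫ pullback.fst f g ≫ X ↘ SC = pullback.fst f' g' ≫ U.ι ≫ X ↘ SC
    rw [← Category.assoc, e1, Category.assoc]⟩
  have hjU := isOpenEmbedding_map U.ι
  have hjV := isOpenEmbedding_map V.ι
  have hcomm : ∀ w, prodMap f g (map j w) =
      Prod.map (map U.ι) (map V.ι) (prodMap f' g' w) := fun w => by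
    refine Prod.ext (Subtype.ext ?_) (Subtype.ext ?_)
    · change (w.1 ≫ j) ≫ pullback.fst f g = (w.1 ≫ pullback.fst f' g') ≫ U.ι
      rw [Category.assoc, e1, Category.assoc]
    · change (w.1 ≫ j) ≫ pullback.snd f g = (w.1 ≫ pullback.snd f' g') ≫ V.ι
      rw [Category.assoc, e2, Category.assoc]
  obtain ⟨O, hO, hOB⟩ := (isInducing_prodMap_affine f' g').isOpen_iff.1
    ((isOpen_basicSet U₀ h₀ hV₀).preimage (continuous_map j))
  have lift : ∀ w : Pts (pullback f g), (map (pullback.fst f g) w).pt ∈ U →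
      (map (pullback.snd f g) w).pt ∈ V → ∃ w', map j w' = w := by
    intro w h1 h2
    obtain ⟨a, ha⟩ : map (pullback.fst f g) w ∈ Set.range (map U.ι) := by
      rw [range_map_of_injective U.ι U.ι.isOpenEmbedding.injective]; simpa using h1
    obtain ⟨b, hb⟩ : map (pullback.snd f g) w ∈ Set.range (map V.ι) := by
      rw [range_map_of_injective V.ι V.ι.isOpenEmbedding.injective]; simpa using h2
    have hab : map f' a = map g' b := by
      apply (isEmbedding_map W.ι).injective
      refine Subtype.ext ?_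
      have e : (map f (map U.ι a)).1 = (map g (map V.ι b)).1 := by
        rw [ha, hb, map_pullback_condition]
      change (a.1 ≫ U.ι) ≫ f = (b.1 ≫ V.ι) ≫ g at e
      change (a.1 ≫ f') ≫ W.ι = (b.1 ≫ g') ≫ W.ι
      simpa [f', g', Scheme.Hom.resLE_comp_ι] using e
    obtain ⟨w', hw'⟩ := exists_prodMap_eq f' g' a b hab
    refine ⟨w', prodMap_injective f g ?_⟩
    rw [hcomm, hw']
    exact Prod.ext ha hb
  refine ⟨prodMap f g ⁻¹' (Prod.map (map U.ι) (map V.ι) '' O), ?_,
    isOpen_induced ((hjU.isOpenMap.prodMap hjV.isOpenMap) O hO), ?_⟩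
  · rintro w ⟨⟨a, b⟩, hab, he⟩
    obtain ⟨w', rfl⟩ := lift w
      (by rw [← show map U.ι a = map (pullback.fst f g) w from congrArg Prod.fst he, pt_map]; exact a.pt.2)
      (by rw [← show map V.ι b = map (pullback.snd f g) w from congrArg Prod.snd he, pt_map]; exact b.pt.2)
    rw [hcomm] at he
    have : prodMap f' g' w' = (a, b) := (hjU.injective.prodMap hjV.injective) he.symm
    have hw : w' ∈ prodMap f' g' ⁻¹' O := by rw [Set.mem_preimage, this]; exact hab
    rw [hOB] at hw
    exact hw
  · obtain ⟨w', rfl⟩ := lift z hzU hzV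
    have hw : w' ∈ map j ⁻¹' basicSet U₀ h₀ V₀ := hz
    rw [← hOB] at hw
    exact ⟨_, hw, (hcomm w').symm⟩

theorem pullback_isHomeomorph [LocallyOfFiniteType (X ↘ SC)] [LocallyOfFiniteType (Y ↘ SC)]
    [LocallyOfFiniteType (S ↘ SC)] :
    IsHomeomorph (fun z : Pts (pullback f g) =>
      (⟨(map (pullback.fst f g) z, map (pullback.snd f g) z), map_pullback_condition f g z⟩ :
        {q : Pts X × Pts Y // map f q.1 = map g q.2})) := by
  have hi : Topology.IsInducing (fun z : Pts (pullback f g) =>
      (⟨prodMap f g z, map_pullback_condition f g z⟩ :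
        {q : Pts X × Pts Y // map f q.1 = map g q.2})) :=
    (isInducing_prodMap f g).codRestrict (fun z => map_pullback_condition f g z)
  have he : Topology.IsEmbedding _ := ⟨hi, fun z w h => prodMap_injective f g (congrArg Subtype.val h)⟩
  exact (he.toHomeomorphOfSurjective fun q => by
    obtain ⟨z, hz⟩ := exists_prodMap_eq f g q.1.1 q.1.2 q.2
    exact ⟨z, Subtype.ext hz⟩).isHomeomorph

end Groth.Agent.AnPts
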