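import Groth.Agent.AnPts.Near
import Groth.Agent.AnPts.Affine
import Groth.Agent.AnPts.Constr
import Groth.Agent.AnPts.Pullback

/-! The complex points of a constructible set are dense in those of its closure. -/

open AlgebraicGeometry CategoryTheory TopologicalSpace Limits

noncomputable section

namespace Groth.Agent.AnPts

open An An.Pts

theorem mem_closure_affine {X : Scheme.{0}} [X.Over SC] [IsAffine X]
    [LocallyOfFiniteType (X ↘ SC)] {x : Pts X} {η : X} (hη : η ⤳ x.pt) {O : X.Opens} (hO : η ∈ O) :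
    x ∈ closure (pt ⁻¹' ((O : Set X) ∩ closure {η}) : Set (Pts X)) := by
  classical
  obtain ⟨n, s, hs⟩ := exists_generators X
  letI : Algebra ℂ Γ(X, ⊤) := (strHom X).toAlgebra
  let P : Ideal Γ(X, ⊤) := RingHom.ker (X.evaluation ⊤ η (Opens.mem_top _)).hom
  have hP : ∀ b, b ∈ P ↔ η ∉ X.basicOpen b := fun b =>
    Scheme.evaluation_eq_zero_iff_notMem_basicOpen X η (Opens.mem_top _) b
  haveI : P.IsPrime := RingHom.ker_isPrime _
  obtain ⟨g, hgO, hηg⟩ := (isAffineOpen_top X).exists_basicOpen_le ⟨η, hO⟩ (Opens.mem_top _)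
  let φ₀ : Γ(X, ⊤) →ₐ[ℂ] ℂ :=
    { toRingHom := evTopHom x
      commutes' := fun c => evTop_strHom x c }
  have hPφ : ∀ b ∈ P, φ₀.toRingHom b = 0 := fun b hb => by
    by_contra h
    exact (hP b).1 hb (hη.mem_open (X.basicOpen b).2 ((pt_mem_basicOpen_iff x b).2 h))
  let φ : (Γ(X, ⊤) ⧸ P) →ₐ[ℂ] ℂ := Ideal.Quotient.liftₐ P φ₀ hPφ
  haveI : Algebra.FiniteType ℂ Γ(X, ⊤) :=
    Algebra.FiniteType.of_surjective (MvPolynomial.aeval s) (fun a => by
      obtain ⟨p, hp⟩ := hs a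
      exact ⟨p, hp⟩)
  haveI : Algebra.FiniteType ℂ (Γ(X, ⊤) ⧸ P) :=
    Algebra.FiniteType.of_surjective (Ideal.Quotient.mkₐ ℂ P) Ideal.Quotient.mk_surjective
  have hg : Ideal.Quotient.mk P g ≠ 0 := by
    rw [Ne, Ideal.Quotient.eq_zero_iff_mem, hP, not_not]; exact hηg
  rw [mem_closure_iff_nhds]
  intro N hN
  rw [(isInducing_coords hs).nhds_eq_comap, Filter.mem_comap] at hN
  obtain ⟨N', hN', hNN'⟩ := hN
  obtain ⟨ε, hε, hball⟩ := Metric.mem_nhds_iff.1 hN'
  obtain ⟨ψ, hψg, hψ⟩ := Near.exists_near φ hg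
    (Finset.univ.image fun i => Ideal.Quotient.mk P (s i)) hε
  let ψ₀ : Γ(X, ⊤) →ₐ[ℂ] ℂ := ψ.comp (Ideal.Quotient.mkₐ ℂ P)
  have hev : ∀ p, ψ₀ (MvPolynomial.eval₂Hom (strHom X) s p) =
      MvPolynomial.eval (fun i => ψ₀ (s i)) p := fun p => by
    change ψ₀.comp (MvPolynomial.aeval s) p = MvPolynomial.aeval (fun i => ψ₀ (s i)) p
    congr 1
    exact MvPolynomial.algHom_ext fun i => by simp
  obtain ⟨y, hy⟩ := exists_pts_of_forall_eval_eq_zero hs (fun i => ψ₀ (s i))
    (fun p hp => by rw [← hev, hp, map_zero])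
  have hyψ : ∀ b, y.evTop b = ψ₀ b := fun b => by
    obtain ⟨p, rfl⟩ := hs b
    rw [evTop_eval₂, hev]
    simp only [hy]
  refine ⟨y, hNN' (hball ?_), hgO ((pt_mem_basicOpen_iff y g).2 ?_), ?_⟩
  · change dist (fun i => y.evTop (s i)) (fun i => x.evTop (s i)) < ε
    rw [dist_pi_lt_iff hε]
    intro i
    rw [Complex.dist_eq, hy]
    exact hψ _ (Finset.mem_image.2 ⟨i, Finset.mem_univ _, rfl⟩)
  · rw [hyψ]; exact hψg
  · rw [← specializes_iff_mem_closure, specializes_iff_forall_open]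
    intro W hW hyW
    obtain ⟨b, hbW, hyb⟩ := (isAffineOpen_top X).exists_basicOpen_le (V := ⟨W, hW⟩) ⟨y.pt, hyW⟩
      (Opens.mem_top _)
    refine hbW ?_
    by_contra h
    have h0 : Ideal.Quotient.mk P b = 0 := Ideal.Quotient.eq_zero_iff_mem.2 ((hP b).2 h)
    refine (pt_mem_basicOpen_iff y b).1 hyb ?_
    rw [hyψ]
    change ψ (Ideal.Quotient.mk P b) = 0
    rw [h0, map_zero]

theorem exists_generic_of_mem_closure {T : Type*} [TopologicalSpace T] [NoetherianSpace T]
    [QuasiSober T] {O C : Set T} (hO : IsOpen O) (hC : IsClosed C) {p : T}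
    (hp : p ∈ closure (O ∩ C)) : ∃ η ∈ O ∩ C, η ⤳ p := by
  obtain ⟨S, hSf, hSc, hSi, hS⟩ := NoetherianSpace.exists_finite_set_isClosed_irreducible hC
  subst hS
  haveI := hSf.to_subtype
  rw [Set.sUnion_eq_iUnion, Set.inter_iUnion, closure_iUnion_of_finite, Set.mem_iUnion] at hp
  obtain ⟨⟨Z, hZ⟩, hp⟩ := hp
  obtain ⟨q, hqO, hqZ⟩ := closure_nonempty_iff.1 ⟨p, hp⟩
  have hη := (hSi Z hZ).isGenericPoint_genericPoint_closure
  rw [(hSc Z hZ).closure_eq] at hη
  refine ⟨_, ⟨(hη.specializes hqZ).mem_open hO hqO, Set.mem_sUnion.2 ⟨Z, hZ, hη.mem⟩⟩,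
    hη.specializes ?_⟩
  exact (hSc Z hZ).closure_subset_iff.2 Set.inter_subset_right hp

variable {X Y : Scheme.{0}} [X.Over SC] [LocallyOfFiniteType (X ↘ SC)]

theorem mem_closure_of_isLocallyClosed {L : Set X} (hL : IsLocallyClosed L) {x : Pts X}
    (hx : x.pt ∈ closure L) : x ∈ closure (pt ⁻¹' L : Set (Pts X)) := by
  obtain ⟨U, hU, hxU⟩ := exists_affine_nhd x.pt
  haveI : IsAffine (U : Scheme) := hU
  haveI : IsNoetherian (U : Scheme) :=
    { toIsLocallyNoetherian := isLocallyNoetherian (U : Scheme) }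
  obtain ⟨x', rfl⟩ : x ∈ Set.range (map U.ι) := by
    rw [range_map_of_injective U.ι U.ι.isOpenEmbedding.injective]; simpa using hxU
  have hx' : x'.pt ∈ closure (U.ι ⁻¹' L) := by
    rw [← U.ι.isOpenEmbedding.isOpenMap.preimage_closure_eq_closure_preimage U.ι.continuous]
    rw [pt_map] at hx
    exact hx
  obtain ⟨O, C, hO, hC, rfl⟩ := hL
  rw [Set.preimage_inter] at hx'
  obtain ⟨η, hηL, hη⟩ := exists_generic_of_mem_closure (hO.preimage U.ι.continuous)
    (hC.preimage U.ι.continuous) hx'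
  have h := mem_closure_affine hη (O := ⟨U.ι ⁻¹' O, hO.preimage U.ι.continuous⟩) hηL.1
  refine map_mem_closure (continuous_map U.ι) h fun z hz => ?_
  rw [Set.mem_preimage, pt_map]
  exact ⟨hz.1, ((hC.preimage U.ι.continuous).closure_subset_iff.2
    (Set.singleton_subset_iff.2 hηL.2)) hz.2⟩

theorem exists_isLocallyClosed_mem_closure {T : Type*} [TopologicalSpace T] {s : Set T}
    (hs : Topology.IsLocallyConstructible s) {p : T} (hp : p ∈ closure s) :
    ∃ L ⊆ s, IsLocallyClosed L ∧ p ∈ closure L := by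
  obtain ⟨V, hV, hVo, hc⟩ := hs p
  have hp' : (⟨p, mem_of_mem_nhds hV⟩ : V) ∈ closure ((Subtype.val : V → T) ⁻¹' s) := by
    rw [← hVo.isOpenMap_subtype_val.preimage_closure_eq_closure_preimage continuous_subtype_val]
    exact hp
  have key : (Subtype.val : V → T) ⁻¹' s ∈
      BooleanSubalgebra.closure {U : Set V | IsOpen U ∧ IsRetrocompact U} := hc
  have hsub : IsSublattice {U : Set V | IsOpen U ∧ IsRetrocompact U} :=
    ⟨fun a ha b hb => ⟨ha.1.union hb.1, ha.2.union hb.2⟩,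
      fun a ha b hb => ⟨ha.1.inter hb.1, ha.2.inter_isOpen hb.2 hb.1⟩⟩
  have hbot : (⊥ : Set V) ∈ {U : Set V | IsOpen U ∧ IsRetrocompact U} :=
    ⟨isOpen_empty, IsRetrocompact.empty⟩
  have htop : (⊤ : Set V) ∈ {U : Set V | IsOpen U ∧ IsRetrocompact U} :=
    ⟨isOpen_univ, IsRetrocompact.univ⟩
  rw [BooleanSubalgebra.mem_closure_iff_sup_sdiff hsub hbot htop] at key
  obtain ⟨t, ht⟩ := key
  rw [Finset.sup_set_eq_biUnion] at ht
  rw [ht, t.closure_biUnion] at hp'
  obtain ⟨u, hu, hpu⟩ := Set.mem_iUnion₂.1 hp'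
  refine ⟨Subtype.val '' (u.1.1 \ u.2.1), ?_, ?_, ?_⟩
  · rintro _ ⟨q, hq, rfl⟩
    have h : q ∈ ⋃ y ∈ t, y.1.1 \ y.2.1 := Set.mem_iUnion₂.2 ⟨u, hu, hq⟩
    rw [← ht] at h
    exact h
  · exact (u.1.2.1.isLocallyClosed.inter u.2.2.1.isClosed_compl.isLocallyClosed).image
      Topology.IsInducing.subtypeVal (by simpa using hVo.isLocallyClosed)
  · exact image_closure_subset_closure_image continuous_subtype_val ⟨_, hpu, rfl⟩

/-- The complex points of a constructible set are dense in those of its closure. -/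
theorem pt_preimage_closure {T : Set X} (hT : Topology.IsLocallyConstructible T) :
    (pt ⁻¹' closure T : Set (Pts X)) = closure (pt ⁻¹' T) := by
  refine Set.Subset.antisymm (fun x hx => ?_) (continuous_pt.closure_preimage_subset T)
  obtain ⟨L, hLT, hL, hxL⟩ := exists_isLocallyClosed_mem_closure hT hx
  exact closure_mono (Set.preimage_mono hLT) (mem_closure_of_isLocallyClosed hL hxL)

omit [X.Over SC] [LocallyOfFiniteType (X ↘ SC)] in
theorem isLocallyConstructible_of_isClosed [IsLocallyNoetherian X] {C : Set X} (hC : IsClosed C) :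
    Topology.IsLocallyConstructible C := fun p => by
  obtain ⟨V, hV, hpV⟩ := exists_affine_nhd p
  haveI := IsLocallyNoetherian.component_noetherian (X := X) ⟨V, hV⟩
  haveI : NoetherianSpace (↥(V : Set X)) := noetherianSpace_of_isAffineOpen V hV
  refine ⟨V, V.2.mem_nhds hpV, V.2, ?_⟩
  have h : IsRetrocompact ((Subtype.val : V → X) ⁻¹' C)ᶜ :=
    fun W _ _ => NoetherianSpace.isCompact _
  exact Topology.isConstructible_compl.1 (h.isConstructible (hC.preimage continuous_subtype_val).isOpen_compl)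

theorem isClosed_iff_pts {T : Set X} (hT : Topology.IsLocallyConstructible T) :
    IsClosed T ↔ IsClosed (pt ⁻¹' T : Set (Pts X)) := by
  refine ⟨fun h => h.preimage continuous_pt, fun h => ?_⟩
  haveI := isLocallyNoetherian X
  refine closure_subset_iff_isClosed.1 fun p hp => ?_
  by_contra hpT
  obtain ⟨L, hL, hLlc, hLne⟩ := exists_isLocallyClosed_subset' (s := closure T ∩ Tᶜ)
    ((isLocallyConstructible_of_isClosed isClosed_closure).inter (isLocallyConstructible_compl hT)) ⟨p, hp, hpT⟩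
  obtain ⟨x, hx⟩ := exists_pt_mem hLlc hLne
  have h1 : x ∈ (pt ⁻¹' closure T : Set (Pts X)) := (hL hx).1
  rw [pt_preimage_closure hT, h.closure_eq] at h1
  exact (hL hx).2 h1

theorem dense_iff_pts {T : Set X} (hT : Topology.IsLocallyConstructible T) :
    Dense T ↔ Dense (pt ⁻¹' T : Set (Pts X)) := by
  rw [dense_iff_closure_eq, dense_iff_closure_eq, ← pt_preimage_closure hT]
  refine ⟨fun h => by rw [h, Set.preimage_univ], fun h => ?_⟩
  exact eq_univ_of_isLocallyClosed isClosed_closure.isLocallyClosed fun x => by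
    exact (Set.ext_iff.1 h x).2 trivial

end Groth.Agent.AnPts
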