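import Groth.Agent.AnPts.Near
import Groth.Agent.AnPts.Affine
import Groth.Agent.AnPts.Pullback
import Groth.Prelude.Def_AnEps
import Mathlib.RingTheory.Unramified.LocalStructure
import Mathlib.AlgebraicGeometry.Morphisms.Etale
import Mathlib.Topology.IsLocalHomeomorph

/-! Étale morphisms induce local homeomorphisms on complex points. -/

open AlgebraicGeometry CategoryTheory TopologicalSpace Filter
open scoped Topology

noncomputable section

namespace Groth.Agent.AnPts

open An An.Pts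

/-- Continuity of evaluation of global functions. -/
theorem continuous_evTop {X : Scheme.{0}} [X.Over SC] (b : Γ(X, ⊤)) :
    Continuous (fun x : Pts X => x.evTop b) := continuous_def.2 fun V hV => by
  have e : (fun x : Pts X => x.evTop b) ⁻¹' V = basicSet ⊤ b V := by
    ext x
    exact ⟨fun h => ⟨Opens.mem_top _, h⟩, fun ⟨_, h⟩ => h⟩
  rw [e]
  exact isOpen_basicSet _ _ hV

section Model

variable {X Y : Scheme.{0}} [X.Over SC] [Y.Over SC]
  [LocallyOfFiniteType (X ↘ SC)] [LocallyOfFiniteType (Y ↘ SC)] [IsAffine X] [IsAffine Y]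
  (f : X ⟶ Y) [f.IsOver SC] [Algebra Γ(Y, ⊤) Γ(X, ⊤)]
  (halg : algebraMap Γ(Y, ⊤) Γ(X, ⊤) = f.appTop.hom)

include halg

theorem evTop_algebraMap (x : Pts X) (b : Γ(Y, ⊤)) :
    x.evTop (algebraMap Γ(Y, ⊤) Γ(X, ⊤) b) = (Pts.map f x).evTop b := by
  rw [halg]
  exact (ev_map f x ⊤ (Opens.mem_top _) b).symm

theorem evTop_aeval (x : Pts X) (ξ : Γ(X, ⊤)) (p : Polynomial Γ(Y, ⊤)) :
    x.evTop (Polynomial.aeval ξ p) = (p.map (evTopHom (Pts.map f x))).eval (x.evTop ξ) := by
  rw [Polynomial.eval_map]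
  change evTopHom x (Polynomial.aeval ξ p) = _
  rw [Polynomial.aeval_def, Polynomial.hom_eval₂]
  congr 1
  exact RingHom.ext fun b => evTop_algebraMap f halg x b

theorem isLocalHomeomorph_of_isStandardEtale [Algebra.IsStandardEtale Γ(Y, ⊤) Γ(X, ⊤)] :
    IsLocalHomeomorph (Pts.map f) := by
  classical
  obtain ⟨Q⟩ := Algebra.IsStandardEtale.nonempty_standardEtalePresentation
    (R := Γ(Y, ⊤)) (S := Γ(X, ⊤))
  let P := Q.P
  let e : Γ(X, ⊤) ≃ₐ[Γ(Y, ⊤)] P.Ring := Q.equivRing
  obtain ⟨m, s, hs⟩ := exists_generators Y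
  let ξ : Γ(X, ⊤) := e.symm P.X
  have hξ : P.HasMap ξ := StandardEtalePair.hasMap_X.map e.symm.toAlgHom
  obtain ⟨ζ, hζ⟩ := hξ.2.exists_right_inv
  let u : Fin m ⊕ Bool → Γ(X, ⊤) :=
    Sum.elim (fun i => algebraMap Γ(Y, ⊤) Γ(X, ⊤) (s i)) (fun b => if b then ξ else ζ)
  have hu : Function.Surjective (MvPolynomial.eval₂Hom (strHom X) u) := by
    let R := (MvPolynomial.eval₂Hom (strHom X) u).range
    have hB : ∀ b, algebraMap Γ(Y, ⊤) Γ(X, ⊤) b ∈ R := fun b => by
      obtain ⟨p, rfl⟩ := hs b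
      refine ⟨MvPolynomial.rename Sum.inl p, ?_⟩
      rw [halg, MvPolynomial.eval₂Hom_rename, ← RingHom.comp_apply, MvPolynomial.comp_eval₂Hom]
      congr 1
      congr 1
      · exact (strHom_comp f).symm
      · funext i
        simp [u, halg]
    let R' : Subalgebra Γ(Y, ⊤) Γ(X, ⊤) := { R.toSubsemiring with algebraMap_mem' := hB }
    let ξ' : R' := ⟨ξ, MvPolynomial.X (Sum.inr true), by simp [u]⟩
    let ζ' : R' := ⟨ζ, MvPolynomial.X (Sum.inr false), by simp [u]⟩
    have hcoe : ∀ p, ((Polynomial.aeval ξ' p : R') : Γ(X, ⊤)) = Polynomial.aeval ξ p := fun p =>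
      (Polynomial.aeval_algHom_apply R'.val ξ' p).symm
    have hξ' : P.HasMap ξ' := ⟨Subtype.ext (by rw [hcoe]; exact hξ.1),
      IsUnit.of_mul_eq_one ζ' (Subtype.ext (by
        change (Polynomial.aeval ξ' P.g : R').1 * ζ = 1
        rw [hcoe]; exact hζ))⟩
    intro a
    have h : (R'.val.comp (P.lift ξ' hξ')) = e.symm.toAlgHom := P.hom_ext (by simp; rfl)
    have := (P.lift ξ' hξ' (e a)).2
    rwa [show ((P.lift ξ' hξ' (e a) : R') : Γ(X, ⊤)) = a from
      (DFunLike.congr_fun h (e a)).trans (e.symm_apply_apply a)] at this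
  -- evaluation of the two polynomials
  let F : Pts Y → Polynomial ℂ := fun y => P.f.map (evTopHom y)
  let G : Pts Y → Polynomial ℂ := fun y => P.g.map (evTopHom y)
  have hFx : ∀ x : Pts X, (F (Pts.map f x)).eval (x.evTop ξ) = 0 := fun x => by
    rw [← evTop_aeval f halg, hξ.1]; exact map_zero (evTopHom x)
  have hGx : ∀ x : Pts X, (G (Pts.map f x)).eval (x.evTop ξ) * x.evTop ζ = 1 := fun x => by
    rw [← evTop_aeval f halg]
    change evTopHom x _ * evTopHom x ζ = 1
    rw [← map_mul, hζ, map_one]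
  have hcont : ∀ p : Polynomial Γ(Y, ⊤),
      Continuous fun q : Pts Y × ℂ => (p.map (evTopHom q.1)).eval q.2 := fun p => by
    simp only [Polynomial.eval_map, Polynomial.eval₂_eq_sum_range]
    exact continuous_finsetSum _ fun i _ =>
      ((continuous_evTop _).comp continuous_fst).mul (continuous_snd.pow i)
  have hex : ∀ (y : Pts Y) (r : ℂ), (F y).eval r = 0 → (G y).eval r ≠ 0 →
      ∃ x : Pts X, Pts.map f x = y ∧ x.evTop ξ = r := by
    intro y r hr hr'
    letI : Algebra Γ(Y, ⊤) ℂ := (evTopHom y).toAlgebra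
    have hm : P.HasMap r := by
      refine ⟨?_, isUnit_iff_ne_zero.2 ?_⟩
      · rw [Polynomial.aeval_def, ← Polynomial.eval_map]; exact hr
      · rw [Polynomial.aeval_def, ← Polynomial.eval_map]; exact hr'
    let φ : Γ(X, ⊤) →ₐ[Γ(Y, ⊤)] ℂ := (P.lift r hm).comp e.toAlgHom
    have hφc : ∀ c, φ (strHom X c) = c := fun c => by
      have h1 : strHom X c = algebraMap Γ(Y, ⊤) Γ(X, ⊤) (strHom Y c) := by
        rw [halg, ← strHom_comp f]
        rfl
      rw [h1, AlgHom.commutes]
      exact evTop_strHom y c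
    have hev : ∀ p, φ (MvPolynomial.eval₂Hom (strHom X) u p) =
        MvPolynomial.eval (fun i => φ (u i)) p := fun p => by
      change φ.toRingHom.comp (MvPolynomial.eval₂Hom (strHom X) u) p = _
      congr 1
      exact MvPolynomial.ringHom_ext (fun c => by simp [hφc]) fun i => by simp
    obtain ⟨x, hx⟩ := exists_pts_of_forall_eval_eq_zero hu (fun i => φ (u i))
      (fun p hp => by rw [← hev, hp, map_zero])
    refine ⟨x, ?_, ?_⟩
    · apply coords_injective hs
      funext i
      have h := hx (Sum.inl i)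
      simp only [u, Sum.elim_inl, evTop_algebraMap f halg, AlgHom.commutes] at h
      exact h
    · have h := hx (Sum.inr true)
      simp only [u, Sum.elim_inr, ite_true] at h
      rw [h]
      change P.lift r hm (e (e.symm P.X)) = r
      rw [AlgEquiv.apply_symm_apply, P.lift_X]
  have hinj : ∀ x x' : Pts X, Pts.map f x = Pts.map f x' → x.evTop ξ = x'.evTop ξ → x = x' := by
    intro x x' h1 h2
    apply coords_injective hu
    funext k
    rcases k with i | b
    · simp only [u, Sum.elim_inl, evTop_algebraMap f halg, h1]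
    · cases b
      · simp only [u, Sum.elim_inr, Bool.false_eq_true, ite_false]
        have a := hGx x
        have b := hGx x'
        rw [h1, h2] at a
        exact mul_left_cancel₀ (left_ne_zero_of_mul_eq_one b) (a.trans b.symm)
      · simp only [u, Sum.elim_inr, ite_true, h2]
  have hopen : IsOpenMap (Pts.map f) := by
    refine isOpenMap_iff_nhds_le.2 fun x₀ S hS => ?_
    rw [mem_map] at hS
    rw [(isInducing_coords hu).nhds_eq_comap, mem_comap] at hS
    obtain ⟨N, hN, hNS⟩ := hS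
    let y₀ := Pts.map f x₀
    let r₀ := x₀.evTop ξ
    -- coordinates as a function of `(y, r)`
    let Φ : Pts Y × ℂ → (Fin m ⊕ Bool → ℂ) := fun q =>
      Sum.elim (fun i => q.1.evTop (s i)) (fun b => if b then q.2 else ((G q.1).eval q.2)⁻¹)
    have hΦx : ∀ x : Pts X, Φ (Pts.map f x, x.evTop ξ) = fun k => x.evTop (u k) := fun x => by
      funext k
      rcases k with i | b
      · simp only [Φ, u, Sum.elim_inl, evTop_algebraMap f halg]
      · cases b
        · simp only [Φ, u, Sum.elim_inr, Bool.false_eq_true, ite_false]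
          exact inv_eq_of_mul_eq_one_right (hGx x)
        · simp [Φ, u]
    have hg0 : (G y₀).eval r₀ ≠ 0 := left_ne_zero_of_mul_eq_one (hGx x₀)
    have hΦc : ContinuousAt Φ (y₀, r₀) := by
      refine continuousAt_pi.2 fun k => ?_
      rcases k with i | b
      · exact ((continuous_evTop (s i)).comp continuous_fst).continuousAt
      · cases b
        · exact ((hcont P.g).continuousAt.inv₀ hg0)
        · exact continuous_snd.continuousAt
    have hev : ∀ᶠ q in 𝓝 (y₀, r₀), Φ q ∈ N ∧ (G q.1).eval q.2 ≠ 0 := by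
      exact Filter.Eventually.and (hΦc.preimage_mem_nhds (by rw [hΦx x₀]; exact hN))
        ((hcont P.g).continuousAt.eventually_ne hg0)
    obtain ⟨W, hW, V, hV, hWV⟩ := mem_nhds_prod_iff.1 hev
    obtain ⟨δ, hδ, hball⟩ := Metric.mem_nhds_iff.1 hV
    have hdeg : 0 < P.f.natDegree := by
      refine Nat.pos_of_ne_zero fun h0 => ?_
      have := hFx x₀
      simp [F, P.monic_f.natDegree_eq_zero.1 h0] at this
    have hsmall : ∀ᶠ y in 𝓝 y₀, ‖(F y).eval r₀‖ < δ ^ P.f.natDegree := by
      have hc : Continuous fun y => ‖(F y).eval r₀‖ :=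
        ((hcont P.f).comp (continuous_id.prodMk continuous_const)).norm
      refine hc.continuousAt.eventually_lt continuousAt_const ?_
      change ‖(F (Pts.map f x₀)).eval (x₀.evTop ξ)‖ < _
      rw [hFx, norm_zero]
      exact pow_pos hδ _
    filter_upwards [hW, hsmall] with y hyW hy
    have hFm : ((F y).comp (Polynomial.X + Polynomial.C r₀)).Monic :=
      (P.monic_f.map _).comp_X_add_C r₀
    have hFd : ((F y).comp (Polynomial.X + Polynomial.C r₀)).natDegree = P.f.natDegree := by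
      rw [Polynomial.natDegree_comp, Polynomial.natDegree_X_add_C, mul_one]
      exact P.monic_f.natDegree_map _
    obtain ⟨r, hr, hrδ⟩ := Near.exists_small_root hFm (by rw [hFd]; exact hdeg) hδ (by
      rw [hFd, Polynomial.coeff_zero_eq_eval_zero]
      simpa using hy)
    simp only [Polynomial.eval_comp, Polynomial.eval_add, Polynomial.eval_X, Polynomial.eval_C] at hr
    have hrV : r + r₀ ∈ V := hball (by rw [Metric.mem_ball, dist_eq_norm]; simpa using hrδ)
    obtain ⟨h1, h2⟩ := hWV (show (y, r + r₀) ∈ W ×ˢ V from ⟨hyW, hrV⟩)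
    obtain ⟨x, hxy, hxr⟩ := hex y _ hr h2
    have hxS : x ∈ Pts.map f ⁻¹' S := hNS (by
      change (fun k => x.evTop (u k)) ∈ N
      rw [← hΦx, hxy, hxr]; exact h1)
    rw [← hxy]
    exact hxS
  -- local injectivity by the simple root
  refine isLocalHomeomorph_iff_isOpenEmbedding_restrict.2 fun x₀ => ?_
  let D : Pts Y × ℂ × ℂ → ℂ := fun q => ∑ i ∈ Finset.range (P.f.natDegree + 1),
    q.1.evTop (P.f.coeff i) * ∑ j ∈ Finset.range i, q.2.1 ^ j * q.2.2 ^ (i - 1 - j)
  have hDc : Continuous D := continuous_finsetSum _ fun i _ =>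
    ((continuous_evTop _).comp continuous_fst).mul (continuous_finsetSum _ fun j _ =>
      ((continuous_fst.comp continuous_snd).pow _).mul ((continuous_snd.comp continuous_snd).pow _))
  have hDdiff : ∀ y r r', D (y, r, r') * (r - r') = (F y).eval r - (F y).eval r' := fun y r r' => by
    simp only [D, F, Polynomial.eval_map, Polynomial.eval₂_eq_sum_range]
    rw [Finset.sum_mul, ← Finset.sum_sub_distrib]
    refine Finset.sum_congr rfl fun i _ => ?_
    rw [mul_assoc, geom_sum₂_mul, mul_sub]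
    rfl
  have hD0 : D (Pts.map f x₀, x₀.evTop ξ, x₀.evTop ξ) ≠ 0 := by
    have hu' := (hξ.isUnit_derivative_f).map (evTopHom x₀)
    have e1 : evTopHom x₀ (Polynomial.aeval ξ P.f.derivative) =
        D (Pts.map f x₀, x₀.evTop ξ, x₀.evTop ξ) := by
      refine (evTop_aeval f halg x₀ ξ _).trans ?_
      rw [← Polynomial.derivative_map, Polynomial.derivative_eval,
        Polynomial.sum_over_range' _ (fun n => by simp) (P.f.natDegree + 1)
          (Nat.lt_succ_of_le Polynomial.natDegree_map_le)]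
      refine Finset.sum_congr rfl fun i _ => ?_
      rw [geom_sum₂_self, Polynomial.coeff_map]
      change evTopHom (Pts.map f x₀) (P.f.coeff i) * (i : ℂ) * _ = _
      rw [mul_assoc]
      rfl
    rw [← e1]
    exact hu'.ne_zero
  obtain ⟨W, hW, V, hV, hWV⟩ := mem_nhds_prod_iff.1 (hDc.continuousAt.eventually_ne hD0)
  obtain ⟨V₁, hV₁, V₂, hV₂, hVV⟩ := mem_nhds_prod_iff.1 hV
  have hnhd : Pts.map f ⁻¹' W ∩ (fun x : Pts X => x.evTop ξ) ⁻¹' (V₁ ∩ V₂) ∈ 𝓝 x₀ :=
    Filter.inter_mem ((continuous_map f).continuousAt.preimage_mem_nhds hW)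
      ((continuous_evTop ξ).continuousAt.preimage_mem_nhds (Filter.inter_mem hV₁ hV₂))
  obtain ⟨U, hU, hUo, hx₀U⟩ := mem_nhds_iff.1 hnhd
  refine ⟨U, hUo.mem_nhds hx₀U, .of_continuous_injective_isOpenMap
    ((continuous_map f).comp continuous_subtype_val) ?_ (hopen.restrict hUo)⟩
  rintro ⟨x, hx⟩ ⟨x', hx'⟩ h
  change Pts.map f x = Pts.map f x' at h
  refine Subtype.ext (hinj x x' h ?_)
  by_contra hne
  have hD : D (Pts.map f x, x.evTop ξ, x'.evTop ξ) ≠ 0 :=
    hWV ⟨(hU hx).1, hVV ⟨(hU hx).2.1, (hU hx').2.2⟩⟩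
  have := hDdiff (Pts.map f x) (x.evTop ξ) (x'.evTop ξ)
  rw [hFx, h, hFx, sub_zero, ← h] at this
  exact hne (sub_eq_zero.1 ((mul_eq_zero.1 this).resolve_left hD))

end Model

end Groth.Agent.AnPts

namespace Groth.Agent.AnPts

open An An.Pts

theorem isLocalHomeomorph_of_local {A B : Type*} [TopologicalSpace A] [TopologicalSpace B]
    (f : A → B) (h : ∀ a : A, ∃ (Z : Type) (_ : TopologicalSpace Z) (j : Z → A),
      Topology.IsOpenEmbedding j ∧ a ∈ Set.range j ∧ IsLocalHomeomorph (f ∘ j)) :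
    IsLocalHomeomorph f := by
  refine isLocalHomeomorph_iff_isOpenEmbedding_restrict.2 fun a => ?_
  obtain ⟨Z, _, j, hj, ⟨z, rfl⟩, hfj⟩ := h a
  obtain ⟨N, hN, hNe⟩ := isLocalHomeomorph_iff_isOpenEmbedding_restrict.1 hfj z
  refine ⟨j '' N, hj.isOpenMap.image_mem_nhds hN, ?_⟩
  let e : N ≃ₜ j '' N :=
    (Equiv.Set.image j N hj.injective).toHomeomorphOfIsInducing
      ((hj.isEmbedding.comp Topology.IsEmbedding.subtypeVal).isInducing.codRestrict
        (fun w : N => (⟨w.1, w.2, rfl⟩ : j w.1 ∈ j '' N)))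
  have he : (j '' N).domRestrict f = N.domRestrict (f ∘ j) ∘ e.symm := by
    funext w
    obtain ⟨v, rfl⟩ := e.surjective w
    rw [Function.comp_apply, e.symm_apply_apply]
    rfl
  rw [he]
  exact hNe.comp e.symm.isOpenEmbedding

theorem map_comp' {X Y Z : Scheme.{0}} [X.Over SC] [Y.Over SC] [Z.Over SC] (g : X ⟶ Y) (k : Y ⟶ Z)
    [g.IsOver SC] [k.IsOver SC] : Pts.map (g ≫ k) = Pts.map k ∘ Pts.map g :=
  funext fun x => map_comp g k x

theorem isLocalHomeomorph_map_affine {X Y : Scheme.{0}} [X.Over SC] [Y.Over SC]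
    [LocallyOfFiniteType (X ↘ SC)] [LocallyOfFiniteType (Y ↘ SC)] [IsAffine X] [IsAffine Y]
    (f : X ⟶ Y) [f.IsOver SC] [Etale f] : IsLocalHomeomorph (Pts.map f) := by
  letI := f.appTop.hom.toAlgebra
  haveI : Algebra.Etale Γ(Y, ⊤) Γ(X, ⊤) :=
    (HasRingHomProperty.appTop (P := @Etale) f inferInstance : f.appTop.hom.Etale)
  refine isLocalHomeomorph_of_local _ fun x => ?_
  let q : Ideal Γ(X, ⊤) := RingHom.ker (evTopHom x)
  haveI : q.IsPrime := RingHom.ker_isPrime _
  obtain ⟨a, haq, hstd⟩ := Algebra.IsEtaleAt.exists_isStandardEtale (R := Γ(Y, ⊤)) q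
  let U : X.Opens := X.basicOpen a
  haveI : IsAffine (U : Scheme) := (isAffineOpen_top X).basicOpen a
  letI algU : Algebra Γ(Y, ⊤) Γ((U : Scheme), ⊤) := (U.ι ≫ f).appTop.hom.toAlgebra
  letI algX : Algebra Γ(X, ⊤) Γ((U : Scheme), ⊤) := U.ι.appTop.hom.toAlgebra
  haveI : IsScalarTower Γ(Y, ⊤) Γ(X, ⊤) Γ((U : Scheme), ⊤) := IsScalarTower.of_algebraMap_eq' rfl
  haveI := (isAffineOpen_top X).isLocalization_basicOpen a
  haveI : IsLocalization.Away a Γ((U : Scheme), ⊤) := by
    refine IsLocalization.isLocalization_of_algEquiv (Submonoid.powers a)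
      (AlgEquiv.ofRingEquiv (f := U.topIso.commRingCatIsoToRingEquiv.symm) fun r => ?_)
    change U.topIso.inv ((X.presheaf.map (homOfLE (X.basicOpen_le a)).op) r) = U.ι.appTop r
    rw [Scheme.Opens.ι_appTop, Scheme.Opens.topIso_inv, ← CategoryTheory.comp_apply]
    erw [← X.presheaf.map_comp]
    rfl
  haveI : Algebra.IsStandardEtale Γ(Y, ⊤) Γ((U : Scheme), ⊤) :=
    haveI := hstd
    Algebra.IsStandardEtale.of_equiv
      (((IsLocalization.algEquiv (Submonoid.powers a) (Localization.Away a)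
        Γ((U : Scheme), ⊤))).restrictScalars Γ(Y, ⊤))
  haveI : Scheme.Hom.IsOver (U.ι ≫ f) SC := ⟨by rw [Category.assoc, comp_over f]; rfl⟩
  have hLH := isLocalHomeomorph_of_isStandardEtale (U.ι ≫ f) rfl
  refine ⟨Pts (U : Scheme), inferInstance, Pts.map U.ι, isOpenEmbedding_map _, ?_, ?_⟩
  · rw [range_map_of_injective U.ι U.ι.isOpenEmbedding.injective]
    simpa [U] using (pt_mem_basicOpen_iff x a).2 (fun h => haq h)
  · rwa [← map_comp']

theorem etaleLH : An.EtaleLH := by
  intro X Y _ _ _ g _ _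
  haveI : LocallyOfFiniteType (X ↘ SC) := by rw [← comp_over g]; infer_instance
  refine isLocalHomeomorph_of_local _ fun x => ?_
  obtain ⟨V, hV, hxV⟩ := exists_affine_nhd (Pts.map g x).pt
  obtain ⟨U, hU, hxU, hUV⟩ := exists_isAffineOpen_mem_and_subset (x := x.pt) (U := g ⁻¹ᵁ V) (by
    change g x.pt ∈ V
    rwa [← pt_map])
  haveI : IsAffine (U : Scheme) := hU
  haveI : IsAffine (V : Scheme) := hV
  let g' : (U : Scheme) ⟶ V := g.resLE V U hUV
  haveI : g'.IsOver SC := ⟨by
    change g' ≫ V.ι ≫ Y ↘ SC = U.ι ≫ X ↘ SC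
    rw [← Category.assoc, Scheme.Hom.resLE_comp_ι, Category.assoc, comp_over g]⟩
  haveI : Etale g' := IsZariskiLocalAtSource.resLE _ inferInstance
  refine ⟨Pts (U : Scheme), inferInstance, Pts.map U.ι, isOpenEmbedding_map _, ?_, ?_⟩
  · rw [range_map_of_injective U.ι U.ι.isOpenEmbedding.injective]; simpa using hxU
  · have e : Pts.map g ∘ Pts.map U.ι = Pts.map V.ι ∘ Pts.map g' := by
      funext w
      refine Subtype.ext ?_
      change (w.1 ≫ U.ι) ≫ g = (w.1 ≫ g') ≫ V.ι
      rw [Category.assoc, Category.assoc, Scheme.Hom.resLE_comp_ι]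
    rw [e]
    exact (isOpenEmbedding_map V.ι).isLocalHomeomorph.comp (isLocalHomeomorph_map_affine g')

end Groth.Agent.AnPts
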