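import Groth.Agent.AnPts.Dense
import Mathlib.Topology.SeparatedMap
import Mathlib.AlgebraicGeometry.Morphisms.Separated

/-! Separatedness and complex points. -/

open AlgebraicGeometry CategoryTheory TopologicalSpace Limits

noncomputable section

namespace Groth.Agent.AnPts

open An An.Pts

variable {X Y : Scheme.{0}} [X.Over SC] [Y.Over SC]
  [LocallyOfFiniteType (X ↘ SC)] [LocallyOfFiniteType (Y ↘ SC)]

theorem isLocallyConstructible_of_isLocallyClosed {L : Set X} (hL : IsLocallyClosed L) :
    Topology.IsLocallyConstructible L := by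
  haveI := isLocallyNoetherian X
  obtain ⟨U, C, hU, hC, rfl⟩ := hL
  refine Topology.IsLocallyConstructible.inter ?_ (isLocallyConstructible_of_isClosed hC)
  have h := isLocallyConstructible_compl (isLocallyConstructible_of_isClosed hU.isClosed_compl)
  rwa [compl_compl] at h

theorem preimage_range_diagonal (f : X ⟶ Y) [f.IsOver SC] :
    (pt ⁻¹' Set.range (pullback.diagonal f) : Set (Pts (pullback f f))) =
      {z | map (pullback.fst f f) z = map (pullback.snd f f) z} := by
  ext z
  refine ⟨fun ⟨p, hp⟩ => ?_, fun h => ⟨_, pt_diagonal_mem z h⟩⟩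
  refine pt_injective ?_
  rw [pt_map, pt_map, ← hp, ← Scheme.Hom.comp_apply, ← Scheme.Hom.comp_apply,
    pullback.diagonal_fst, pullback.diagonal_snd]

theorem isSeparated_iff_map (f : X ⟶ Y) [f.IsOver SC] :
    IsSeparated f ↔ IsSeparatedMap (map f) := by
  have h1 : IsSeparated f ↔ IsClosed (Set.range (pullback.diagonal f)) := by
    rw [isSeparated_iff]
    exact ⟨fun h => (pullback.diagonal f).isClosedEmbedding.isClosed_range,
      fun h => IsClosedImmersion.of_isPreimmersion _ h⟩
  rw [h1, isClosed_iff_pts (isLocallyConstructible_of_isLocallyClosed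
    (pullback.diagonal f).isLocallyClosed_range), preimage_range_diagonal,
    isSeparatedMap_iff_isClosed_diagonal]
  obtain ⟨e, he⟩ := isHomeomorph_iff_exists_homeomorph.1 (pullback_isHomeomorph f f)
  have hd : {z : Pts (pullback f f) | map (pullback.fst f f) z = map (pullback.snd f f) z} =
      e ⁻¹' (Function.pullbackDiagonal (map f)) := by
    ext z
    simp only [Set.mem_preimage, Function.pullbackDiagonal, Set.mem_ofPred_eq, he]
    rfl
  rw [hd]
  exact e.isClosed_preimage

instance subsingleton_pts_SC : Subsingleton (Pts SC) :=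
  ⟨fun a b => Subtype.ext (by
    have ha := a.2
    have hb := b.2
    change a.1 ≫ 𝟙 SC = 𝟙 SC at ha
    change b.1 ≫ 𝟙 SC = 𝟙 SC at hb
    rw [Category.comp_id] at ha hb
    rw [ha, hb])⟩

theorem isSeparatedMap_iff_t2Space (g : Pts X → Pts SC) : IsSeparatedMap g ↔ T2Space (Pts X) :=
  ⟨fun h => ⟨fun x y hxy => h x y (Subsingleton.elim _ _) hxy⟩,
    fun h x y _ hxy => h.t2 hxy⟩

theorem isSeparated_iff_t2Space : IsSeparated (X ↘ SC) ↔ T2Space (Pts X) := by
  haveI : LocallyOfFiniteType (SC ↘ SC) := inferInstanceAs (LocallyOfFiniteType (𝟙 SC))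
  rw [isSeparated_iff_map (X ↘ SC), isSeparatedMap_iff_t2Space]

theorem discreteTopology_iff : DiscreteTopology ↥X ↔ DiscreteTopology (Pts X) := by
  haveI := isLocallyNoetherian X
  refine ⟨fun h => DiscreteTopology.of_continuous_injective continuous_pt pt_injective, fun h => ?_⟩
  haveI := jacobsonSpace X
  have hopen : ∀ q : X, IsClosed ({q} : Set X) → IsOpen ({q} : Set X) := fun q hq => by
    rw [← isClosed_compl_iff, isClosed_iff_pts
      (isLocallyConstructible_compl (isLocallyConstructible_of_isClosed hq))]
    exact isClosed_discrete _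
  refine discreteTopology_iff_isOpen_singleton.2 fun p => hopen p ?_
  obtain ⟨q, hq, hqc⟩ := nonempty_inter_closedPoints (Z := closure ({p} : Set X))
    ⟨p, subset_closure (Set.mem_singleton p)⟩ isClosed_closure.isLocallyClosed
  have h' := (specializes_iff_mem_closure.2 hq).mem_open (hopen q hqc) rfl
  rw [Set.mem_singleton_iff] at h'
  rw [h']
  exact hqc

end Groth.Agent.AnPts
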