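import Groth.Agent.AnPts.Etale
import Groth.Agent.AnPts.Separated
import Mathlib.Topology.Covering.Basic
import Mathlib.Topology.Maps.Proper.Basic
import Mathlib.AlgebraicGeometry.Morphisms.Finite

/-! Finite morphisms give proper maps with finite fibres on complex points. -/

open AlgebraicGeometry CategoryTheory TopologicalSpace Filter Topology

noncomputable section

namespace Groth.Agent.AnPts

open An An.Pts

section Affine

variable {X Y : Scheme.{0}} [X.Over SC] [Y.Over SC]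
  [LocallyOfFiniteType (X ↘ SC)] [LocallyOfFiniteType (Y ↘ SC)] [IsAffine X] [IsAffine Y]

theorem t2Space_affine : T2Space (Pts X) := by
  obtain ⟨n, s, hs⟩ := exists_generators X
  exact (isClosedEmbedding_coords hs).isEmbedding.t2Space

variable (f : X ⟶ Y) [f.IsOver SC] [IsFinite f]

theorem exists_monic_evTop (b : Γ(X, ⊤)) : ∃ Q : Polynomial Γ(Y, ⊤), Q.Monic ∧
    ∀ x : Pts X, (Q.map (evTopHom (Pts.map f x))).eval (x.evTop b) = 0 := by
  letI := f.appTop.hom.toAlgebra
  haveI : Module.Finite Γ(Y, ⊤) Γ(X, ⊤) :=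
    ((HasAffineProperty.iff_of_isAffine (P := @IsFinite)).1 ‹IsFinite f›).2
  obtain ⟨Q, hQ, hQ0⟩ := Algebra.IsIntegral.isIntegral (R := Γ(Y, ⊤)) b
  refine ⟨Q, hQ, fun x => ?_⟩
  rw [← evTop_aeval f rfl x b Q, Polynomial.aeval_def, hQ0]
  exact map_zero (evTopHom x)

theorem fibre_finite_affine (y : Pts Y) : (Pts.map f ⁻¹' {y}).Finite := by
  classical
  obtain ⟨n, s, hs⟩ := exists_generators X
  choose Q hQ hQ0 using exists_monic_evTop f
  refine Set.Finite.of_finite_image (f := fun x i => x.evTop (s i)) ?_ (coords_injective hs).injOn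
  refine (Set.Finite.pi' fun i =>
    ((Q (s i)).map (evTopHom y)).roots.toFinset.finite_toSet).subset ?_
  rintro _ ⟨x, hx, rfl⟩ i
  simp only [Finset.mem_coe, Multiset.mem_toFinset, Polynomial.mem_roots', ne_eq,
    Polynomial.IsRoot.def]
  refine ⟨((hQ _).map _).ne_zero, ?_⟩
  have h := hQ0 (s i) x
  rwa [show Pts.map f x = y from hx] at h

theorem isProperMap_affine : IsProperMap (Pts.map f) := by
  classical
  haveI := t2Space_affine (X := Y)
  rw [isProperMap_iff_ultrafilter_of_t2]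
  refine ⟨continuous_map f, fun 𝒰 y h => ?_⟩
  obtain ⟨n, s, hs⟩ := exists_generators X
  choose Q hQ hQ0 using exists_monic_evTop f
  let Bd : Fin n → Pts Y → ℝ := fun i y' =>
    1 + ∑ j ∈ Finset.range (Q (s i)).natDegree, ‖y'.evTop ((Q (s i)).coeff j)‖
  have hBc : ∀ i, Continuous (Bd i) := fun i =>
    continuous_const.add (continuous_finsetSum _ fun j _ => (continuous_evTop _).norm)
  let K : Set (Fin n → ℂ) := Set.univ.pi fun i => Metric.closedBall 0 (Bd i y + 1)
  have hK : IsCompact K := isCompact_univ_pi fun i => isCompact_closedBall _ _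
  let F : Pts X → (Fin n → ℂ) := fun x i => x.evTop (s i)
  have hev : F ⁻¹' K ∈ (𝒰 : Filter (Pts X)) := by
    have h1 : ∀ᶠ y' in 𝓝 y, ∀ i, Bd i y' < Bd i y + 1 := eventually_all.2 fun i =>
      (hBc i).continuousAt.eventually_lt continuousAt_const (lt_add_one _)
    filter_upwards [h.eventually h1] with x hx i _
    rw [Metric.mem_closedBall, dist_zero_right]
    refine le_trans ?_ (hx i).le
    have := Near.norm_root_le ((hQ (s i)).map (evTopHom (Pts.map f x))) (hQ0 (s i) x)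
    simpa [F, Bd, (hQ (s i)).natDegree_map, Polynomial.coeff_map, evHom_apply] using this
  obtain ⟨t, -, ht⟩ := hK.ultrafilter_le_nhds (𝒰.map F)
    (le_principal_iff.2 hev)
  have hcl : t ∈ Set.range F :=
    (isClosed_range_coords hs).mem_of_tendsto (f := F) (b := (𝒰 : Filter (Pts X))) ht
      (Eventually.of_forall fun x => ⟨x, rfl⟩)
  obtain ⟨x, rfl⟩ := hcl
  refine ⟨x, ?_⟩
  rw [(isInducing_coords hs).nhds_eq_comap]
  exact tendsto_iff_comap.1 ht

theorem isCoveringMap_affine [Etale f] : IsCoveringMap (Pts.map f) := by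
  haveI := t2Space_affine (X := X)
  have hlh := isLocalHomeomorph_map_affine f
  rw [isCoveringMap_iff_isCoveringMapOn_univ]
  exact (isProperMap_affine f).isClosedMap.isCoveringMapOn_of_isLocalHomeomorphOn
    (fun y _ => fibre_finite_affine f y) (fun x _ => hlh x)

end Affine

variable {X Y : Scheme.{0}} [X.Over SC] [Y.Over SC]
  [LocallyOfFiniteType (X ↘ SC)] [LocallyOfFiniteType (Y ↘ SC)]
  (f : X ⟶ Y) [f.IsOver SC]

instance morphismRestrictOver (V : Y.Opens) : (f ∣_ V).IsOver SC := ⟨by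
  change (f ∣_ V) ≫ V.ι ≫ Y ↘ SC = (f ⁻¹ᵁ V).ι ≫ X ↘ SC
  rw [← Category.assoc, morphismRestrict_ι, Category.assoc, comp_over f]⟩

omit [LocallyOfFiniteType (X ↘ SC)] [LocallyOfFiniteType (Y ↘ SC)] in
theorem map_restrict_comm (V : Y.Opens) (w : Pts ((f ⁻¹ᵁ V : X.Opens) : Scheme)) :
    Pts.map V.ι (Pts.map (f ∣_ V) w) = Pts.map f (Pts.map (f ⁻¹ᵁ V).ι w) := by
  refine Subtype.ext ?_
  change (w.1 ≫ (f ∣_ V)) ≫ V.ι = (w.1 ≫ (f ⁻¹ᵁ V).ι) ≫ f
  rw [Category.assoc, morphismRestrict_ι, ← Category.assoc]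

omit [LocallyOfFiniteType (Y ↘ SC)] in
theorem exists_lift_restrict (V : Y.Opens) (x : Pts X) (hx : (Pts.map f x).pt ∈ V) :
    ∃ w : Pts ((f ⁻¹ᵁ V : X.Opens) : Scheme), Pts.map (f ⁻¹ᵁ V).ι w = x := by
  have : x ∈ Set.range (Pts.map (f ⁻¹ᵁ V).ι) := by
    rw [range_map_of_injective _ (f ⁻¹ᵁ V).ι.isOpenEmbedding.injective]
    simpa [← pt_map] using hx
  exact this

theorem exists_ptsV (V : Y.Opens) (y : Pts Y) (hy : y.pt ∈ V) :
    ∃ y' : Pts (V : Scheme), Pts.map V.ι y' = y := by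
  have : y ∈ Set.range (Pts.map V.ι) := by
    rw [range_map_of_injective _ V.ι.isOpenEmbedding.injective]
    simpa using hy
  exact this

variable [IsFinite f]

theorem fibre_finite (y : Pts Y) : (Pts.map f ⁻¹' {y}).Finite := by
  obtain ⟨V, hV, hyV⟩ := exists_affine_nhd y.pt
  haveI : IsAffine (V : Scheme) := hV
  haveI : IsAffine ((f ⁻¹ᵁ V : X.Opens) : Scheme) := hV.preimage f
  haveI : IsFinite (f ∣_ V) := IsZariskiLocalAtTarget.restrict ‹_› V
  obtain ⟨y', rfl⟩ := exists_ptsV V y hyV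
  refine ((fibre_finite_affine (f ∣_ V) y').image (Pts.map (f ⁻¹ᵁ V).ι)).subset fun x hx => ?_
  obtain ⟨w, rfl⟩ := exists_lift_restrict f V x (by rw [show Pts.map f x = _ from hx]; exact hyV)
  refine ⟨w, (isEmbedding_map V.ι).injective ?_, rfl⟩
  rw [map_restrict_comm]
  exact hx

theorem isProperMap_of_isFinite : IsProperMap (Pts.map f) := by
  rw [isProperMap_iff_ultrafilter]
  refine ⟨continuous_map f, fun 𝒰 y h => ?_⟩
  obtain ⟨V, hV, hyV⟩ := exists_affine_nhd y.pt
  haveI : IsAffine (V : Scheme) := hV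
  haveI : IsAffine ((f ⁻¹ᵁ V : X.Opens) : Scheme) := hV.preimage f
  haveI : IsFinite (f ∣_ V) := IsZariskiLocalAtTarget.restrict ‹_› V
  obtain ⟨y', rfl⟩ := exists_ptsV V y hyV
  have hev : Set.range (Pts.map (f ⁻¹ᵁ V).ι) ∈ (𝒰 : Filter (Pts X)) := by
    filter_upwards [h.eventually ((isOpen_preimage_pt V).mem_nhds hyV)] with x hx
    exact exists_lift_restrict f V x hx
  let 𝒱 : Ultrafilter (Pts ((f ⁻¹ᵁ V : X.Opens) : Scheme)) :=
    𝒰.comap (isEmbedding_map (f ⁻¹ᵁ V).ι).injective hev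
  have h' : Tendsto (Pts.map (f ∣_ V)) 𝒱 (𝓝 y') := by
    rw [(isEmbedding_map V.ι).tendsto_nhds_iff]
    have e : Pts.map V.ι ∘ Pts.map (f ∣_ V) = Pts.map f ∘ Pts.map (f ⁻¹ᵁ V).ι :=
      funext (map_restrict_comm f V)
    rw [e]
    refine h.comp ?_
    rw [Ultrafilter.coe_comap]
    exact tendsto_comap
  obtain ⟨w, hw, hwle⟩ := (isProperMap_affine (f ∣_ V)).ultrafilter_le_nhds_of_tendsto h'
  refine ⟨Pts.map (f ⁻¹ᵁ V).ι w, by rw [← map_restrict_comm, hw], ?_⟩
  rw [Ultrafilter.coe_comap] at hwle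
  have := Filter.map_mono (m := Pts.map (f ⁻¹ᵁ V).ι) hwle
  rw [Filter.map_comap_of_mem hev] at this
  exact this.trans (continuous_map _).continuousAt

theorem isCoveringMap_of_finite_etale [Etale f] : IsCoveringMap (Pts.map f) := by
  intro y
  obtain ⟨V, hV, hyV⟩ := exists_affine_nhd y.pt
  haveI : IsAffine (V : Scheme) := hV
  haveI : IsAffine ((f ⁻¹ᵁ V : X.Opens) : Scheme) := hV.preimage f
  haveI : IsFinite (f ∣_ V) := IsZariskiLocalAtTarget.restrict ‹_› V
  haveI : Etale (f ∣_ V) := IsZariskiLocalAtTarget.restrict ‹_› V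
  let S : Set (Pts Y) := pt ⁻¹' (V : Set Y)
  have hcov := isCoveringMap_affine (f ∣_ V)
  let eV : Pts (V : Scheme) ≃ₜ S :=
    (isEmbedding_map V.ι).toHomeomorph.trans (Homeomorph.setCongr (by
      rw [range_map_of_injective _ V.ι.isOpenEmbedding.injective]; simp [S]))
  let eU : Pts ((f ⁻¹ᵁ V : X.Opens) : Scheme) ≃ₜ ↥(Pts.map f ⁻¹' S) :=
    (isEmbedding_map (f ⁻¹ᵁ V).ι).toHomeomorph.trans (Homeomorph.setCongr (by
      rw [range_map_of_injective _ (f ⁻¹ᵁ V).ι.isOpenEmbedding.injective]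
      ext x
      simp [S, pt_map]))
  have e : S.restrictPreimage (Pts.map f) = eV ∘ Pts.map (f ∣_ V) ∘ eU.symm := by
    funext w
    obtain ⟨v, rfl⟩ := eU.surjective w
    rw [Function.comp_apply, Function.comp_apply, eU.symm_apply_apply]
    exact Subtype.ext (map_restrict_comm f V v).symm
  have hr : IsCoveringMap (S.restrictPreimage (Pts.map f)) := by
    rw [e]
    exact (hcov.comp_homeomorph eU.symm).homeomorph_comp eV
  exact IsCoveringMapOn.of_isCoveringMap_restrictPreimage S (isOpen_preimage_pt V)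
    ((isOpen_preimage_pt V).preimage (continuous_map f)) hr y hyV

end Groth.Agent.AnPts
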