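import Groth.Agent.AnPts.ProperCrit
import Mathlib.AlgebraicGeometry.ZariskisMainTheorem

/-! Finiteness of a morphism is detected on complex points. -/

open AlgebraicGeometry CategoryTheory TopologicalSpace Limits Filter Topology

noncomputable section

namespace Groth.Agent.AnPts

open An An.Pts

variable {X Y : Scheme.{0}} [X.Over SC] [Y.Over SC]
  [LocallyOfFiniteType (X ↘ SC)] [LocallyOfFiniteType (Y ↘ SC)]

theorem finite_preimage_pt (f : X ⟶ Y) [f.IsOver SC] (y : Pts Y)
    (h : (Pts.map f ⁻¹' {y}).Finite) : (f ⁻¹' {y.pt} : Set X).Finite := by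
  haveI := jacobsonSpace X
  have hN : IsClosed (pt '' (Pts.map f ⁻¹' {y}) : Set X) := by
    rw [← Set.biUnion_of_singleton (pt '' _)]
    exact (h.image pt).isClosed_biUnion fun p hp => by
      obtain ⟨x, -, rfl⟩ := hp
      exact pt_mem_closedPoints x
  refine (h.image pt).subset fun p hp => ?_
  by_contra hpN
  obtain ⟨x, hx⟩ := exists_pt_mem
    (S := f ⁻¹' {y.pt} \ (pt '' (Pts.map f ⁻¹' {y})))
    (((pt_mem_closedPoints y : IsClosed ({y.pt} : Set Y)).preimage f.continuous).isLocallyClosed.inter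
      hN.isOpen_compl.isLocallyClosed) ⟨p, hp, hpN⟩
  exact hx.2 ⟨x, (map_eq_iff f x y).2 hx.1, rfl⟩

theorem locallyQuasiFinite_of_fibre_finite (f : X ⟶ Y) [f.IsOver SC]
    (h : ∀ y : Pts Y, (Pts.map f ⁻¹' {y}).Finite) : LocallyQuasiFinite f := by
  haveI := locallyOfFiniteType_of_isOver f
  rw [← Scheme.Hom.quasiFiniteLocus_eq_top_iff]
  by_contra hne
  obtain ⟨x, hx⟩ := exists_pt_mem (S := (f.quasiFiniteLocus : Set X)ᶜ)
    f.quasiFiniteLocus.isOpen.isClosed_compl.isLocallyClosed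
    (Set.nonempty_compl.2 fun e => hne (SetLike.coe_injective (e.trans (Opens.coe_top (α := X)).symm)))
  apply hx
  have hfin : (f ⁻¹' {f x.pt} : Set X).Finite := by
    rw [← pt_map]; exact finite_preimage_pt f _ (h _)
  have : Finite (f.fiber (f x.pt)) := (f.fiberHomeo (f x.pt)).finite_iff.mpr hfin.to_subtype
  exact Scheme.Hom.quasiFiniteAt_iff_isOpen_singleton_asFiber.mpr (isOpen_discrete _)

theorem isFinite_iff_map (f : X ⟶ Y) [f.IsOver SC] [QuasiCompact f] :
    IsFinite f ↔ IsProperMap (Pts.map f) ∧ IsSeparatedMap (Pts.map f) ∧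
      ∀ y : Pts Y, (Pts.map f ⁻¹' {y}).Finite := by
  refine ⟨fun _ => ⟨isProperMap_of_isProper f, (isSeparated_iff_map f).1 inferInstance,
    fun y => fibre_finite f y⟩, fun h => ?_⟩
  haveI := (isProper_iff_map f).2 ⟨h.1, h.2.1⟩
  haveI := locallyQuasiFinite_of_fibre_finite f h.2.2
  exact IsFinite.of_isProper_of_locallyQuasiFinite f

end Groth.Agent.AnPts
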