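import Groth.Agent.AnPts.Connected
import Groth.Agent.AnPts.Pullback
import Groth.Agent.S4195
import Groth.Agent.S4197
import Groth.Agent.EtFound.TopInv
import Groth.Prelude.Def_AnEps

/-!
Maps of spaces of complex points over a base, between étale schemes, come from morphisms.
-/

open AlgebraicGeometry CategoryTheory TopologicalSpace Limits

noncomputable section

namespace Groth.Agent.AnPts

open An An.Pts

variable {U V S : Scheme.{0}} [U.Over SC] [V.Over SC] [S.Over SC]
  [LocallyOfFiniteType (U ↘ SC)] [LocallyOfFiniteType (V ↘ SC)] [LocallyOfFiniteType (S ↘ SC)]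
  (u : U ⟶ S) (v : V ⟶ S) [u.IsOver SC] [v.IsOver SC] [Etale u] [Etale v]

theorem isIso_of_etale_of_bijective {W : Scheme.{0}} [W.Over SC] [LocallyOfFiniteType (W ↘ SC)]
    (h : W ⟶ U) [h.IsOver SC] [Etale h] (hb : Function.Bijective (map h)) : IsIso h := by
  haveI : UniversallyInjective h := universallyInjective_of_injective_map h hb.1
  haveI := EtFound.isOpenImmersion_of_etale_univInj h
  haveI : Surjective h := by
    rw [surjective_iff, ← Set.range_eq_univ]
    refine eq_univ_of_isLocallyClosed h.isOpenEmbedding.isOpen_range.isLocallyClosed fun y => ?_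
    obtain ⟨a, rfl⟩ := hb.2 y
    exact ⟨a.pt, (pt_map h a).symm⟩
  exact (isIso_iff_isOpenImmersion_and_surjective h).2 ⟨inferInstance, inferInstance⟩

omit [LocallyOfFiniteType (V ↘ SC)] [LocallyOfFiniteType (S ↘ SC)] [Etale u] in
theorem eq_of_map_eq (g g' : U ⟶ V) [g.IsOver SC] [g'.IsOver SC] (hg : g ≫ v = g' ≫ v)
    (h : ∀ a, map g a = map g' a) : g = g' := by
  let k := pullback.lift g g' hg
  have hrange : Set.range k ⊆ Set.range (pullback.diagonal v) := by
    have : k ⁻¹' Set.range (pullback.diagonal v) = Set.univ := by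
      refine eq_univ_of_isLocallyClosed
        (((pullback.diagonal v).isOpenEmbedding.isOpen_range.preimage k.continuous).isLocallyClosed) fun a => ?_
      refine ⟨(map g a).pt, ?_⟩
      show (pullback.diagonal v) (((a.1 ≫ g) : SC ⟶ V) cpt) = k (a.1 cpt)
      rw [← Scheme.Hom.comp_apply, ← Scheme.Hom.comp_apply]
      refine congrArg (fun m : SC ⟶ pullback v v => m cpt) ?_
      rw [Category.assoc]
      apply pullback.hom_ext
      · simp only [k, Category.assoc, pullback.diagonal_fst, Category.comp_id]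
        erw [pullback.lift_fst]
      · simp only [k, Category.assoc, pullback.diagonal_snd, Category.comp_id]
        erw [pullback.lift_snd]
        exact congrArg Subtype.val (h a)
    rintro _ ⟨p, rfl⟩
    exact (Set.ext_iff.1 this p).2 trivial
  let l := IsOpenImmersion.lift (pullback.diagonal v) k hrange
  have e : l ≫ pullback.diagonal v = k := IsOpenImmersion.lift_fac _ _ _
  have e1 := congrArg (· ≫ pullback.fst v v) e
  have e2 := congrArg (· ≫ pullback.snd v v) e
  simp only [Category.assoc, pullback.diagonal_fst, pullback.diagonal_snd, Category.comp_id, k,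
    pullback.lift_fst, pullback.lift_snd] at e1 e2
  rw [← e1, ← e2]

theorem exists_hom_of_continuous [IsSeparated v] (φ : Pts U → Pts V) (hφc : Continuous φ)
    (hφ : ∀ a, map v (φ a) = map u a) :
    ∃ g : U ⟶ V, g ≫ v = u ∧ ∀ a, a.1 ≫ g = (φ a).1 := by
  let pU := pullback.fst u v
  let pV := pullback.snd u v
  let W : Set (Pts (pullback u v)) := {z | φ (map pU z) = map pV z}
  have he : map v ∘ (fun z => φ (map pU z)) = map v ∘ map pV := _root_.funext fun z => by
    show map v (φ (map pU z)) = _
    rw [hφ]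
    exact map_pullback_condition u v z
  have hW : IsClopen W :=
    ⟨((S4195.result V S v).1 inferInstance).isClosed_eqLocus (hφc.comp (continuous_map pU)) (continuous_map pV) he,
      ((S4197.result V S v).isLocallyInjective).isOpen_eqLocus (hφc.comp (continuous_map pU)) (continuous_map pV) he⟩
  obtain ⟨T, hT, hTW⟩ := exists_isClopen_preimage hW
  let C : (pullback u v).Opens := ⟨T, hT.isOpen⟩
  letI : C.toScheme.Over SC := ⟨C.ι ≫ (pullback u v) ↘ SC⟩
  haveI : C.ι.IsOver SC := ⟨rfl⟩
  haveI : LocallyOfFiniteType (C.toScheme ↘ SC) :=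
    inferInstanceAs (LocallyOfFiniteType (C.ι ≫ (pullback u v) ↘ SC))
  haveI : Etale (C.ι ≫ pU) := inferInstance
  haveI : (C.ι ≫ pU).IsOver SC := ⟨by rw [Category.assoc, comp_over pU SC]; rfl⟩
  have hzW : ∀ c : Pts C.toScheme, φ (map pU (map C.ι c)) = map pV (map C.ι c) := fun c => by
    have h1 : (map C.ι c).pt ∈ T := by
      rw [pt_map]
      exact C.range_ι.le ⟨c.pt, rfl⟩
    exact (Set.ext_iff.1 hTW _).1 h1
  have hbij : Function.Bijective (map (C.ι ≫ pU)) := by
    have hcomp : ∀ c, map (C.ι ≫ pU) c = map pU (map C.ι c) := fun c => Subtype.ext (Category.assoc _ _ _).symm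
    refine ⟨fun c d h => ?_, fun a => ?_⟩
    · rw [hcomp, hcomp] at h
      refine (isEmbedding_map C.ι).injective (prodMap_injective u v (Prod.ext h ?_))
      show map pV (map C.ι c) = map pV (map C.ι d)
      rw [← hzW, ← hzW, h]
    · obtain ⟨z, hz⟩ := exists_prodMap_eq u v a (φ a) (hφ a).symm
      have h1 : map pU z = a := congrArg Prod.fst hz
      have h2 : map pV z = φ a := congrArg Prod.snd hz
      have hzT : z.pt ∈ Set.range C.ι := by
        rw [C.range_ι]
        exact (Set.ext_iff.1 hTW z).2 (show φ (map pU z) = map pV z by rw [h1, h2])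
      obtain ⟨c, rfl⟩ := (range_map_of_injective C.ι C.ι.isOpenEmbedding.injective).ge hzT
      exact ⟨c, (hcomp c).trans h1⟩
  haveI := isIso_of_etale_of_bijective (C.ι ≫ pU) hbij
  refine ⟨inv (C.ι ≫ pU) ≫ C.ι ≫ pV, ?_, fun a => ?_⟩
  · rw [Category.assoc, IsIso.inv_comp_eq]
    simp only [Category.assoc, pU, pV, pullback.condition]
  · obtain ⟨c, rfl⟩ := hbij.2 a
    have h := congrArg Subtype.val (hzW c)
    rw [show map pU (map C.ι c) = map (C.ι ≫ pU) c from Subtype.ext (Category.assoc _ _ _)] at h
    rw [h]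
    have e := IsIso.hom_inv_id_assoc (C.ι ≫ pU) (C.ι ≫ pV)
    refine Eq.trans ?_ (Category.assoc c.1 C.ι pV).symm
    refine Eq.trans ?_ (congrArg (fun m => c.1 ≫ m) e)
    exact Category.assoc _ _ _

end Groth.Agent.AnPts
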