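import Groth.Prelude.Def_AnHol
import Groth.Agent.AnPts.Affine
import Mathlib.Analysis.Calculus.FDeriv.Mul
import Mathlib.Analysis.Calculus.FDeriv.Pi
import Mathlib.Analysis.Calculus.FDeriv.Prod

/-! Holomorphic functions on affine space are the differentiable ones. -/

open AlgebraicGeometry CategoryTheory TopologicalSpace Filter Topology

noncomputable section

namespace Groth.Agent.AnPts

open An An.Pts

theorem differentiableAt_eval {σ : Type} [Fintype σ] (p : MvPolynomial σ ℂ) (z : σ → ℂ) :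
    DifferentiableAt ℂ (fun t => MvPolynomial.eval t p) z := by
  induction p using MvPolynomial.induction_on with
  | C a => simp
  | add p q hp hq => simp only [map_add]; exact hp.add hq
  | mul_X p i hp =>
    simp only [map_mul, MvPolynomial.eval_X]
    exact hp.mul (differentiableAt_apply i z)

/-- The coordinates on affine space. -/
abbrev coordsA (n : ℕ) (x : Pts (𝔸(Fin n; SC))) : Fin n → ℂ :=
  fun i => x.evTop (AffineSpace.coord SC i)

/-- Near any point a regular function is a differentiable function of the coordinates. -/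
theorem exists_differentiableAt_ev {n : ℕ} (W : (𝔸(Fin n; SC)).Opens) (f : Γ(𝔸(Fin n; SC), W))
    (x : Pts (𝔸(Fin n; SC))) (hx : x.pt ∈ W) :
    ∃ (G : (Fin n → ℂ) → ℂ) (O : Set (Pts (𝔸(Fin n; SC)))),
      IsOpen O ∧ x ∈ O ∧ DifferentiableAt ℂ G (coordsA n x) ∧
      ∀ z ∈ O, ∃ hz : z.pt ∈ W, z.ev W hz f = G (coordsA n z) := by
  have hs := coord_generators n
  obtain ⟨h, hhW, hxh⟩ := (isAffineOpen_top (𝔸(Fin n; SC))).exists_basicOpen_le
    ⟨x.pt, hx⟩ (Opens.mem_top _)
  haveI := (isAffineOpen_top (𝔸(Fin n; SC))).isLocalization_basicOpen h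
  obtain ⟨k, a, e⟩ := IsLocalization.Away.surj h ((𝔸(Fin n; SC)).presheaf.map (homOfLE hhW).op f)
  rw [RingHom.algebraMap_toAlgebra] at e
  obtain ⟨pa, hpa⟩ := hs a
  obtain ⟨ph, hph⟩ := hs h
  refine ⟨fun t => MvPolynomial.eval t pa / MvPolynomial.eval t ph ^ k,
    pt ⁻¹' ((𝔸(Fin n; SC)).basicOpen h : Set (𝔸(Fin n; SC))), isOpen_preimage_pt _, hxh, ?_, fun z hz => ⟨hhW hz, ?_⟩⟩
  · have hne : MvPolynomial.eval (coordsA n x) ph ^ k ≠ 0 := by
      refine pow_ne_zero _ ?_
      change MvPolynomial.eval (fun i => x.evTop (AffineSpace.coord SC i)) ph ≠ 0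
      rw [← evTop_eval₂, hph]
      exact (pt_mem_basicOpen_iff x h).1 hxh
    simp only [div_eq_mul_inv]
    exact (differentiableAt_eval pa _).mul (((differentiableAt_eval ph _).pow k).inv hne)
  · have e' := congrArg (evHom z ((𝔸(Fin n; SC)).basicOpen h) hz) e
    rw [map_mul, map_pow, evHom_apply, evHom_apply, evHom_apply, Groth.Agent.AnPts.ev_res] at e'
    change z.ev W _ f * (z.ev _ hz ((𝔸(Fin n; SC)).presheaf.map (homOfLE ((𝔸(Fin n; SC)).basicOpen_le h)).op h)) ^ k =
      z.ev _ hz ((𝔸(Fin n; SC)).presheaf.map (homOfLE ((𝔸(Fin n; SC)).basicOpen_le h)).op a) at e'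
    rw [Groth.Agent.AnPts.ev_res, Groth.Agent.AnPts.ev_res] at e'
    change z.ev W _ f = MvPolynomial.eval (fun i => z.evTop (AffineSpace.coord SC i)) pa /
      MvPolynomial.eval (fun i => z.evTop (AffineSpace.coord SC i)) ph ^ k
    rw [← evTop_eval₂, ← evTop_eval₂, hpa, hph, eq_div_iff
      (pow_ne_zero _ ((pt_mem_basicOpen_iff z h).1 hz))]
    exact e'

/-- The function of the coordinates defined by a function on an open set. -/
def toCoords {n : ℕ} {U : Opens (top (𝔸(Fin n; SC)))} (g : U → ℂ) : (Fin n → ℂ) → ℂ :=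
  Function.extend (fun x : U => coordsA n x.1) g 0

theorem toCoords_apply {n : ℕ} {U : Opens (top (𝔸(Fin n; SC)))} (g : U → ℂ) (x : U) :
    toCoords g (coordsA n x.1) = g x :=
  ((coords_affineSpace_isHomeomorph n).injective.comp Subtype.val_injective).extend_apply _ _ x

theorem toCoords_eventuallyEq {n : ℕ} {U : Opens (top (𝔸(Fin n; SC)))} (g : U → ℂ)
    (G : (Fin n → ℂ) → ℂ) (x : U) (O : Set (Pts (𝔸(Fin n; SC)))) (hO : IsOpen O) (hx : x.1 ∈ O)
    (h : ∀ z : U, z.1 ∈ O → g z = G (coordsA n z.1)) :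
    toCoords g =ᶠ[𝓝 (coordsA n x.1)] G := by
  have hH := coords_affineSpace_isHomeomorph n
  filter_upwards [(hH.isOpenMap _ (hO.inter U.2)).mem_nhds ⟨x.1, ⟨hx, x.2⟩, rfl⟩] with t ht
  obtain ⟨z, ⟨hzO, hzU⟩, rfl⟩ := ht
  exact (toCoords_apply g ⟨z, hzU⟩).trans (h ⟨z, hzU⟩ hzO)

theorem differentiableAt_toCoords_of_isChartFun {n : ℕ} {U : Opens (top (𝔸(Fin n; SC)))} (g : U → ℂ)
    (hg : IsChartFun U g) (x : U) : DifferentiableAt ℂ (toCoords g) (coordsA n x.1) := by
  obtain ⟨W, hW, m, s, V, G, hV, hG, h⟩ := hg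
  choose S O hO hxO hS hSeq using fun i => exists_differentiableAt_ev W (s i) x.1 (hW x)
  have heq : toCoords g =ᶠ[𝓝 (coordsA n x.1)] fun t => G (fun i => S i t) := by
    refine toCoords_eventuallyEq g _ x (⋂ i, O i) (isOpen_iInter_of_finite hO)
      (Set.mem_iInter.2 hxO) fun z hz => ?_
    rw [(h z).2]
    congr 1
    funext i
    obtain ⟨_, e⟩ := hSeq i z.1 (Set.mem_iInter.1 hz i)
    exact e
  refine DifferentiableAt.congr_of_eventuallyEq ?_ heq
  have hval : (fun i => S i (coordsA n x.1)) ∈ V := by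
    convert (h x).1 using 1
    funext i
    obtain ⟨_, e⟩ := hSeq i x.1 (hxO i)
    exact e.symm
  exact DifferentiableAt.comp (coordsA n x.1) (g := G) (f := fun t i => S i t)
    (hG.differentiableAt (hV.mem_nhds hval)) (differentiableAt_pi.2 hS)

theorem differentiableAt_toCoords_of_chartAlg {n : ℕ} {U : Opens (top (𝔸(Fin n; SC)))} {g : U → ℂ}
    (hg : g ∈ chartAlg U) (x : U) : DifferentiableAt ℂ (toCoords g) (coordsA n x.1) := by
  induction hg using Algebra.adjoin_induction with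
  | mem g hg => exact differentiableAt_toCoords_of_isChartFun g hg x
  | algebraMap c =>
    exact (differentiableAt_const c).congr_of_eventuallyEq
      (toCoords_eventuallyEq _ _ x Set.univ isOpen_univ trivial fun z _ => rfl)
  | add a b _ _ ha hb =>
    exact (ha.add hb).congr_of_eventuallyEq
      (toCoords_eventuallyEq _ (toCoords a + toCoords b) x Set.univ isOpen_univ trivial fun z _ => by
        rw [Pi.add_apply, Pi.add_apply, toCoords_apply, toCoords_apply])
  | mul a b _ _ ha hb =>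
    exact (ha.mul hb).congr_of_eventuallyEq
      (toCoords_eventuallyEq _ (toCoords a * toCoords b) x Set.univ isOpen_univ trivial fun z _ => by
        rw [Pi.mul_apply, Pi.mul_apply, toCoords_apply, toCoords_apply])

theorem holPred_affineSpace_iff {n : ℕ} (U : Opens (top (𝔸(Fin n; SC)))) (g : U → ℂ) :
    (holPred (𝔸(Fin n; SC))).pred g ↔ ∃ G : (Fin n → ℂ) → ℂ,
      DifferentiableOn ℂ G (coordsA n '' (U : Set (top (𝔸(Fin n; SC))))) ∧
      ∀ x : U, g x = G (coordsA n x.1) := by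
  constructor
  · intro h
    refine ⟨toCoords g, ?_, fun x => (toCoords_apply g x).symm⟩
    rintro _ ⟨x, hx, rfl⟩
    obtain ⟨V, hxV, i, hV⟩ := h ⟨x, hx⟩
    have h1 := differentiableAt_toCoords_of_chartAlg hV ⟨x, hxV⟩
    refine (h1.congr_of_eventuallyEq ?_).differentiableWithinAt
    refine toCoords_eventuallyEq g _ ⟨x, hx⟩ (V : Set (top (𝔸(Fin n; SC)))) V.2 hxV fun z hz => ?_
    rw [toCoords_apply _ ⟨z.1, hz⟩]
    rfl
  · rintro ⟨G, hG, hg⟩
    refine holPred_of_chartAlg (Algebra.subset_adjoin ?_)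
    exact ⟨⊤, fun _ => trivial, n, AffineSpace.coord SC, coordsA n '' (U : Set (top (𝔸(Fin n; SC)))), G,
      (coords_affineSpace_isHomeomorph n).isOpenMap _ U.2, hG,
      fun x => ⟨⟨x.1, x.2, rfl⟩, hg x⟩⟩

end Groth.Agent.AnPts
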