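import Groth.Agent.AnPts.Connected
import Groth.Agent.AnPts.Conn.Root
import Mathlib.Analysis.Complex.CoveringMap
import Mathlib.Topology.Homotopy.Lifting

/-! A nowhere vanishing regular function with nullhomotopic map to `ℂ*` is constant. -/

open AlgebraicGeometry CategoryTheory TopologicalSpace Limits

noncomputable section

namespace Groth.Agent.AnPts

open An An.Pts

theorem exists_const_affine {X : Scheme.{0}} [X.Over SC] [IsAffine X]
    [LocallyOfFiniteType (X ↘ SC)] (η : X) (u : Γ(X, ⊤)) (g : Pts X → ℂ) (hg : Continuous g)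
    (hgu : ∀ x : Pts X, Complex.exp (g x) = x.evTop u) :
    ∃ c : ℂ, ∀ x : Pts X, x.pt ∈ closure ({η} : Set X) → x.evTop u = c := by
  classical
  obtain ⟨n, s, hs⟩ := exists_generators X
  letI : Algebra ℂ Γ(X, ⊤) := (strHom X).toAlgebra
  let P : Ideal Γ(X, ⊤) := RingHom.ker (X.evaluation ⊤ η (Opens.mem_top _)).hom
  have hP : ∀ b, b ∈ P ↔ η ∉ X.basicOpen b := fun b =>
    Scheme.evaluation_eq_zero_iff_notMem_basicOpen X η (Opens.mem_top _) b
  haveI : P.IsPrime := RingHom.ker_isPrime _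
  haveI : Algebra.FiniteType ℂ Γ(X, ⊤) :=
    Algebra.FiniteType.of_surjective (MvPolynomial.aeval s) (fun a => by
      obtain ⟨p, hp⟩ := hs a
      exact ⟨p, hp⟩)
  haveI : Algebra.FiniteType ℂ (Γ(X, ⊤) ⧸ P) :=
    Algebra.FiniteType.of_surjective (Ideal.Quotient.mkₐ ℂ P) Ideal.Quotient.mk_surjective
  have hF := isClosedEmbedding_coords hs
  set F := fun (x : Pts X) (i : Fin n) => x.evTop (s i) with hFdef
  let G : (Fin n → ℂ) → ℂ := Function.extend F g 0
  have hGF : ∀ x, G (F x) = g x := fun x => hF.injective.extend_apply _ _ x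
  have hGc : ContinuousOn G (Set.range F) := by
    rw [continuousOn_iff_continuous_domRestrict]
    have e : (Set.range F).domRestrict G = g ∘ hF.isEmbedding.toHomeomorph.symm := by
      funext z
      obtain ⟨_, x, rfl⟩ := z
      have hx : hF.isEmbedding.toHomeomorph.symm ⟨F x, x, rfl⟩ = x := by
        rw [Homeomorph.symm_apply_eq]; rfl
      change G (F x) = g _
      rw [hGF, hx]
    rw [e]
    exact hg.comp (Homeomorph.continuous _)
  have hlift : ∀ φ : (Γ(X, ⊤) ⧸ P) →ₐ[ℂ] ℂ, ∃ y : Pts X, ∀ b, y.evTop b = φ (Ideal.Quotient.mk P b) := by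
    intro φ
    let ψ₀ : Γ(X, ⊤) →ₐ[ℂ] ℂ := φ.comp (Ideal.Quotient.mkₐ ℂ P)
    have hev : ∀ p, ψ₀ (MvPolynomial.eval₂Hom (strHom X) s p) =
        MvPolynomial.eval (fun i => ψ₀ (s i)) p := fun p => by
      change ψ₀.comp (MvPolynomial.aeval s) p = MvPolynomial.aeval (fun i => ψ₀ (s i)) p
      congr 1
      exact MvPolynomial.algHom_ext fun i => by simp
    obtain ⟨y, hy⟩ := exists_pts_of_forall_eval_eq_zero hs (fun i => ψ₀ (s i))
      (fun p hp => by rw [← hev, hp, map_zero])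
    refine ⟨y, fun b => ?_⟩
    obtain ⟨p, rfl⟩ := hs b
    rw [evTop_eval₂]
    change _ = ψ₀ (MvPolynomial.eval₂Hom (strHom X) s p)
    rw [hev]
    simp only [hy]
  by_cases hne : ∃ x : Pts X, x.pt ∈ closure ({η} : Set X)
  swap
  · exact ⟨0, fun x hx => absurd ⟨x, hx⟩ hne⟩
  have hφx : ∀ x : Pts X, x.pt ∈ closure ({η} : Set X) →
      ∃ φ : (Γ(X, ⊤) ⧸ P) →ₐ[ℂ] ℂ, ∀ b, φ (Ideal.Quotient.mk P b) = x.evTop b := by
    intro x hxη
    let φ₀ : Γ(X, ⊤) →ₐ[ℂ] ℂ :=
      { toRingHom := evTopHom x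
        commutes' := fun c => evTop_strHom x c }
    have hPφ : ∀ b ∈ P, φ₀.toRingHom b = 0 := fun b hb => by
      by_contra h
      exact (hP b).1 hb
        ((specializes_iff_mem_closure.2 hxη).mem_open (X.basicOpen b).2 ((pt_mem_basicOpen_iff x b).2 h))
    exact ⟨Ideal.Quotient.liftₐ P φ₀ hPφ, fun b => rfl⟩
  have hu0 : Ideal.Quotient.mk P u ≠ 0 := by
    obtain ⟨x, hx⟩ := hne
    obtain ⟨φ, hφ⟩ := hφx x hx
    intro e
    refine Complex.exp_ne_zero (g x) ?_
    rw [hgu, ← hφ, e, map_zero]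
  obtain ⟨c, hc⟩ := Conn.mem_range_of_log (fun i => Ideal.Quotient.mk P (s i)) (Ideal.Quotient.mk P u)
    hu0 G (hGc.mono (by
      rintro _ ⟨φ, rfl⟩
      obtain ⟨y, hy⟩ := hlift φ
      exact ⟨y, funext fun i => hy (s i)⟩))
    (fun φ => by
      obtain ⟨y, hy⟩ := hlift φ
      rw [show (fun i => φ (Ideal.Quotient.mk P (s i))) = F y from (funext fun i => hy (s i)).symm,
        hGF, hgu, hy])
  refine ⟨c, fun x hx => ?_⟩
  obtain ⟨φ, hφ⟩ := hφx x hx
  rw [← hφ, ← hc]
  exact φ.commutes c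

variable {X : Scheme.{0}} [X.Over SC] [LocallyOfFiniteType (X ↘ SC)]

theorem evTop_eq_of_log [ConnectedSpace X] (u : Γ(X, ⊤)) (g : Pts X → ℂ) (hg : Continuous g)
    (hgu : ∀ x : Pts X, Complex.exp (g x) = x.evTop u) (x y : Pts X) : x.evTop u = y.evTop u := by
  haveI := jacobsonSpace X
  have hcont : Continuous fun x : Pts X => x.evTop u := by simp_rw [← hgu]; exact hg.cexp
  have key : ∀ η : X, ∃ c : ℂ, ∀ x : Pts X, x.pt ∈ closure ({η} : Set X) → x.evTop u = c := by
    intro η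
    obtain ⟨U, hU, hηU⟩ := exists_affine_nhd η
    haveI : IsAffine (U : Scheme) := hU
    obtain ⟨η', rfl⟩ : ∃ η' : (U : Scheme), U.ι η' = η := ⟨⟨η, hηU⟩, rfl⟩
    obtain ⟨c, hc⟩ := exists_const_affine η' (U.ι.appTop u) (g ∘ map U.ι)
      (hg.comp (continuous_map U.ι)) (fun z => by
        rw [Function.comp_apply, hgu]
        exact ev_map U.ι z ⊤ (Opens.mem_top _) u)
    refine ⟨c, fun z hz => ?_⟩
    have hL : IsLocallyClosed ((U : Set X) ∩ closure {U.ι η'}) :=
      U.2.isLocallyClosed.inter isClosed_closure.isLocallyClosed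
    have hz' := mem_closure_of_isLocallyClosed hL (closure_mono
      (Set.singleton_subset_iff.2 (show U.ι η' ∈ (U : Set X) ∩ closure {U.ι η'} from
        ⟨hηU, subset_closure rfl⟩)) hz)
    refine closure_minimal (fun w hw => ?_) (isClosed_eq hcont continuous_const) hz'
    obtain ⟨w', rfl⟩ : w ∈ Set.range (map U.ι) := by
      rw [range_map_of_injective U.ι U.ι.isOpenEmbedding.injective]; simpa using hw.1
    change (map U.ι w').evTop u = c
    refine (ev_map U.ι w' ⊤ (Opens.mem_top _) u).trans (hc w' ?_)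
    rw [U.ι.isOpenEmbedding.isInducing.closure_eq_preimage_closure_image, Set.image_singleton,
      Set.mem_preimage, ← pt_map]
    exact hw.2
  let T : Set X := {p | ∀ z : Pts X, z.pt ∈ closure ({p} : Set X) → z.evTop u = x.evTop u}
  have hT : ∀ p q : X, p ⤳ q → (p ∈ T ↔ q ∈ T) := fun p q hpq => by
    have hsub : closure ({q} : Set X) ⊆ closure {p} :=
      isClosed_closure.closure_subset_iff.2 (Set.singleton_subset_iff.2 hpq.mem_closure)
    refine ⟨fun h z hz => h z (hsub hz), fun h z hz => ?_⟩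
    obtain ⟨c, hc⟩ := key p
    obtain ⟨w, hw⟩ := exists_pt_mem (S := closure ({q} : Set X)) isClosed_closure.isLocallyClosed
      ⟨q, subset_closure rfl⟩
    rw [hc z hz, ← hc w (hsub hw), h w hw]
  have hTc : IsClopen T :=
    ⟨isOpen_compl_iff.1 (isOpen_of_stable fun p q hpq => not_congr (hT p q hpq)), isOpen_of_stable hT⟩
  have hx : x.pt ∈ T := fun z hz => by
    rw [(pt_mem_closedPoints x : IsClosed ({x.pt} : Set X)).closure_eq] at hz
    rw [pt_injective hz]
  have hy : y.pt ∈ T := by rw [hTc.eq_univ ⟨_, hx⟩]; trivial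
  exact (hy y (subset_closure rfl)).symm

theorem evTop_eq_of_nullhomotopic [ConnectedSpace X] (u : Γ(X, ⊤))
    (φ : C(Pts X, {z : ℂ // z ≠ 0})) (hφ : ∀ x : Pts X, (φ x).1 = x.evTop u)
    (z₀ : {z : ℂ // z ≠ 0}) (hnull : φ.Homotopic (ContinuousMap.const (Pts X) z₀)) (x y : Pts X) :
    x.evTop u = y.evTop u := by
  obtain ⟨H⟩ := hnull.symm
  let c₀ : C(Pts X, ℂ) := ContinuousMap.const (Pts X) (Complex.log z₀.1)
  have H0 : ∀ a, H.toContinuousMap (0, a) =
      (fun z : ℂ => (⟨_, z.exp_ne_zero⟩ : {z : ℂ // z ≠ 0})) (c₀ a) := fun a =>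
    (H.apply_zero a).trans (Subtype.ext (Complex.exp_log z₀.2).symm)
  let L := Complex.isCoveringMap_exp.liftHomotopy H.toContinuousMap c₀ H0
  refine evTop_eq_of_log u (fun a => L (1, a)) (L.continuous.comp (Continuous.prodMk_right 1))
    (fun a => ?_) x y
  have h1 := congrFun (Complex.isCoveringMap_exp.liftHomotopy_lifts H.toContinuousMap c₀ H0) (1, a)
  rw [← hφ]
  exact (congrArg Subtype.val h1).trans (congrArg Subtype.val (H.apply_one a))

end Groth.Agent.AnPts
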