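import Groth.Agent.AnPts.Finite
import Mathlib.AlgebraicGeometry.ValuativeCriterion
import Mathlib.Order.Filter.FilterProduct
import Mathlib.RingTheory.Valuation.ValuationSubring

/-! A proper morphism induces a proper map on complex points: the valuative criterion applied to
the ultrapower of the complex numbers. -/

open AlgebraicGeometry CategoryTheory TopologicalSpace Filter Topology

noncomputable section

namespace Groth.Agent.AnPts

open An An.Pts

section Germ

variable {P : Type} (𝒰 : Ultrafilter P)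

/-- The bounded germs along an ultrafilter form a valuation ring. -/
def boundedGerms : ValuationSubring ((𝒰 : Filter P).Germ ℂ) where
  carrier := {g | ∃ (F : P → ℂ) (C : ℝ), (F : (𝒰 : Filter P).Germ ℂ) = g ∧
    ∀ᶠ p in (𝒰 : Filter P), ‖F p‖ ≤ C}
  zero_mem' := ⟨0, 0, rfl, .of_forall fun p => by simp⟩
  one_mem' := ⟨1, 1, rfl, .of_forall fun p => by simp⟩
  add_mem' := by
    rintro _ _ ⟨F, C, rfl, hF⟩ ⟨G, D, rfl, hG⟩
    exact ⟨F + G, C + D, rfl, by
      filter_upwards [hF, hG] with p h₁ h₂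
      exact (norm_add_le _ _).trans (add_le_add h₁ h₂)⟩
  mul_mem' := by
    rintro _ _ ⟨F, C, rfl, hF⟩ ⟨G, D, rfl, hG⟩
    exact ⟨F * G, C * D, rfl, by
      filter_upwards [hF, hG] with p h₁ h₂
      rw [Pi.mul_apply, norm_mul]
      exact mul_le_mul h₁ h₂ (norm_nonneg _) ((norm_nonneg _).trans h₁)⟩
  neg_mem' := by
    rintro _ ⟨F, C, rfl, hF⟩
    exact ⟨-F, C, rfl, by simpa using hF⟩
  mem_or_inv_mem' g := by
    induction g using Filter.Germ.inductionOn with | _ F =>
    rcases Ultrafilter.em 𝒰 (fun p => ‖F p‖ ≤ 1) with h | h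
    · exact Or.inl ⟨F, 1, rfl, h⟩
    · refine Or.inr ⟨F⁻¹, 1, rfl, ?_⟩
      filter_upwards [h] with p hp
      rw [Pi.inv_apply, norm_inv]
      exact inv_le_one_of_one_le₀ (le_of_not_ge hp)

/-- The limit of a germ along the ultrafilter. -/
def germLim (g : (𝒰 : Filter P).Germ ℂ) : ℂ :=
  g.liftOn (fun F => limUnder (𝒰 : Filter P) F) fun F G h => by
    change lim (Filter.map F (𝒰 : Filter P)) = lim (Filter.map G (𝒰 : Filter P))
    rw [Filter.map_congr h]

theorem germLim_coe {F : P → ℂ} {t : ℂ} (h : Tendsto F 𝒰 (𝓝 t)) :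
    germLim 𝒰 (F : (𝒰 : Filter P).Germ ℂ) = t := h.limUnder_eq

theorem exists_tendsto {F : P → ℂ} {C : ℝ} (h : ∀ᶠ p in (𝒰 : Filter P), ‖F p‖ ≤ C) :
    ∃ t, Tendsto F 𝒰 (𝓝 t) := by
  obtain ⟨t, -, ht⟩ := (isCompact_closedBall (0 : ℂ) C).ultrafilter_le_nhds (𝒰.map F)
    (le_principal_iff.2 (Ultrafilter.mem_map.2 (h.mono fun p hp => by
      simpa [Set.mem_preimage, Metric.mem_closedBall] using hp)))
  exact ⟨t, ht⟩

theorem exists_rep (g : boundedGerms 𝒰) : ∃ (F : P → ℂ) (t : ℂ),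
    (F : (𝒰 : Filter P).Germ ℂ) = g.1 ∧ Tendsto F 𝒰 (𝓝 t) := by
  obtain ⟨F, C, hF, h⟩ := g.2
  obtain ⟨t, ht⟩ := exists_tendsto 𝒰 h
  exact ⟨F, t, hF, ht⟩

/-- The standard part of a bounded germ. -/
def stPart : boundedGerms 𝒰 →+* ℂ where
  toFun g := germLim 𝒰 g.1
  map_one' := germLim_coe 𝒰 (F := fun _ => 1) tendsto_const_nhds
  map_zero' := germLim_coe 𝒰 (F := fun _ => 0) tendsto_const_nhds
  map_mul' g h := by
    obtain ⟨F, s, hF, hs⟩ := exists_rep 𝒰 g
    obtain ⟨G, t, hG, ht⟩ := exists_rep 𝒰 h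
    rw [MulMemClass.coe_mul, ← hF, ← hG, ← Filter.Germ.coe_mul, germLim_coe 𝒰 hs, germLim_coe 𝒰 ht]
    exact germLim_coe 𝒰 (hs.mul ht)
  map_add' g h := by
    obtain ⟨F, s, hF, hs⟩ := exists_rep 𝒰 g
    obtain ⟨G, t, hG, ht⟩ := exists_rep 𝒰 h
    rw [AddMemClass.coe_add, ← hF, ← hG, ← Filter.Germ.coe_add, germLim_coe 𝒰 hs, germLim_coe 𝒰 ht]
    exact germLim_coe 𝒰 (hs.add ht)

theorem stPart_surjective : Function.Surjective (stPart 𝒰) := fun c =>
  ⟨⟨_, fun _ => c, ‖c‖, rfl, .of_forall fun _ => le_rfl⟩, germLim_coe 𝒰 tendsto_const_nhds⟩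

end Germ

variable {X Y : Scheme.{0}} [X.Over SC] [Y.Over SC]

theorem val_eq_fromSpec (x : Pts X) {U : X.Opens} (hU : IsAffineOpen U) (h : x.pt ∈ U) :
    x.1 = Spec.map (CommRingCat.ofHom (evHom x U h)) ≫ hU.fromSpec := by
  have e := IsAffineOpen.SpecMap_appLE_fromSpec (f := x.1) hU (isAffineOpen_top SC)
    (top_le_preimage x h)
  rw [IsAffineOpen.fromSpec_top, Scheme.isoSpec_Spec_inv] at e
  have e' : CommRingCat.ofHom (evHom x U h) =
      x.1.appLE U ⊤ (top_le_preimage x h) ≫ (Scheme.ΓSpecIso (CommRingCat.of ℂ)).hom := rfl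
  rw [e', Spec.map_comp, Category.assoc, e, ← Category.assoc, ← Spec.map_comp, Iso.inv_hom_id,
    Spec.map_id, Category.id_comp]

section Ultra

variable (𝒰 : Ultrafilter (Pts X))

open Classical in
/-- The tautological point with values in germs along an ultrafilter concentrated on `U`. -/
def germHom (U : X.Opens) (hU : ∀ᶠ x in (𝒰 : Filter (Pts X)), x.pt ∈ U) :
    Γ(X, U) →+* (𝒰 : Filter (Pts X)).Germ ℂ where
  toFun a := ((fun x => if h : x.pt ∈ U then x.ev U h a else 0 : Pts X → ℂ))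
  map_one' := Filter.Germ.coe_eq.2 (by
    filter_upwards [hU] with x hx
    simp only [dif_pos hx, Pi.one_apply]; exact map_one (evHom x U hx))
  map_zero' := Filter.Germ.coe_eq.2 (by
    filter_upwards [hU] with x hx
    simp only [dif_pos hx, Pi.zero_apply]; exact map_zero (evHom x U hx))
  map_mul' a b := Filter.Germ.coe_eq.2 (by
    filter_upwards [hU] with x hx
    simp only [dif_pos hx, Pi.mul_apply]; exact map_mul (evHom x U hx) a b)
  map_add' a b := Filter.Germ.coe_eq.2 (by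
    filter_upwards [hU] with x hx
    simp only [dif_pos hx, Pi.add_apply]; exact map_add (evHom x U hx) a b)

theorem germHom_res {D U : X.Opens} (i : D ≤ U) (hD : ∀ᶠ x in (𝒰 : Filter (Pts X)), x.pt ∈ D)
    (hU : ∀ᶠ x in (𝒰 : Filter (Pts X)), x.pt ∈ U) :
    CommRingCat.ofHom (germHom 𝒰 U hU) =
      X.presheaf.map (homOfLE i).op ≫ CommRingCat.ofHom (germHom 𝒰 D hD) := by
  ext a
  refine Filter.Germ.coe_eq.2 ?_
  filter_upwards [hD] with x hx
  simp only [dif_pos hx, dif_pos (i hx)]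
  exact (ev_res x i hx a).symm

variable [LocallyOfFiniteType (X ↘ SC)] [LocallyOfFiniteType (Y ↘ SC)]
  (f : X ⟶ Y) [f.IsOver SC]

open Classical in
theorem exists_limit [IsProper f] {y : Pts Y} (h : Tendsto (Pts.map f) 𝒰 (𝓝 y)) :
    ∃ x, Pts.map f x = y ∧ (𝒰 : Filter (Pts X)) ≤ 𝓝 x := by
  obtain ⟨V, hV, hyV⟩ := exists_affine_nhd y.pt
  have hevV : ∀ᶠ x in (𝒰 : Filter (Pts X)), x.pt ∈ f ⁻¹ᵁ V := by
    filter_upwards [h.eventually ((isOpen_preimage_pt V).mem_nhds hyV)] with x hx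
    change f x.pt ∈ V
    rw [← pt_map]; exact hx
  -- a member of an affine cover of the preimage
  obtain ⟨U, hU, hUV, hevU⟩ : ∃ U : X.Opens, IsAffineOpen U ∧ U ≤ f ⁻¹ᵁ V ∧
      ∀ᶠ x in (𝒰 : Filter (Pts X)), x.pt ∈ U := by
    obtain ⟨S, hSf, hS⟩ := (isCompact_and_isOpen_iff_finite_and_eq_biUnion_affineOpens (X := X) (U := ⇑f ⁻¹' V)).1
      ⟨QuasiCompact.isCompact_preimage _ V.2 hV.isCompact, V.2.preimage f.continuous⟩
    have hm : (⋃ U ∈ S, (pt ⁻¹' ((U : X.Opens) : Set X) : Set (Pts X))) ∈ 𝒰 := by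
      refine Filter.mem_of_superset hevV fun x hx => ?_
      have hx' : x.pt ∈ ⇑f ⁻¹' (V : Set Y) := hx
      rw [hS] at hx'
      simpa using hx'
    obtain ⟨U, hUS, hU𝒰⟩ := (Ultrafilter.finite_biUnion_mem_iff hSf).1 hm
    refine ⟨U.1, U.2, fun p hp => ?_, hU𝒰⟩
    change p ∈ ⇑f ⁻¹' (V : Set Y)
    rw [hS]
    exact Set.mem_biUnion hUS hp
  let R := boundedGerms 𝒰
  let K := (𝒰 : Filter (Pts X)).Germ ℂ
  -- values on the base converge
  let G : Γ(Y, V) → Pts X → ℂ := fun b x =>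
    if hx : (Pts.map f x).pt ∈ V then (Pts.map f x).ev V hx b else 0
  have hG : ∀ b, Tendsto (G b) 𝒰 (𝓝 (y.ev V hyV b)) := fun b => by
    rw [tendsto_nhds]
    intro N hN hyN
    filter_upwards [h.eventually ((isOpen_basicSet V b hN).mem_nhds ⟨hyV, hyN⟩)] with x hx
    obtain ⟨hx₁, hx₂⟩ := hx
    simpa [G, hx₁] using hx₂
  have hGU : ∀ b, germHom 𝒰 U hevU ((f.appLE V U hUV).hom b) = (G b : K) := fun b => by
    refine Filter.Germ.coe_eq.2 ?_
    filter_upwards [hevU] with x hx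
    have hx' : (Pts.map f x).pt ∈ V := by rw [pt_map]; exact hUV hx
    simp only [G, dif_pos hx, dif_pos hx']
    rw [ev_map f x V hx']
    exact ev_res x hUV hx _
  let β : Γ(Y, V) →+* R :=
    ((germHom 𝒰 U hevU).comp (f.appLE V U hUV).hom).codRestrict R fun b => by
      refine ⟨G b, ‖y.ev V hyV b‖ + 1, (hGU b).symm, ?_⟩
      exact ((hG b).norm.eventually_lt_const (lt_add_one _)).mono fun _ => le_of_lt
  have hβ : ∀ b, stPart 𝒰 (β b) = y.ev V hyV b := fun b => by
    change germLim 𝒰 (germHom 𝒰 U hevU ((f.appLE V U hUV).hom b)) = _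
    rw [hGU]; exact germLim_coe 𝒰 (hG b)
  have w : (Spec.map (CommRingCat.ofHom (germHom 𝒰 U hevU)) ≫ hU.fromSpec) ≫ f =
      Spec.map (CommRingCat.ofHom (algebraMap R K)) ≫
        Spec.map (CommRingCat.ofHom β) ≫ hV.fromSpec := by
    rw [Category.assoc, ← IsAffineOpen.SpecMap_appLE_fromSpec (f := f) hV hU hUV, ← Category.assoc,
      ← Spec.map_comp, ← Category.assoc, ← Spec.map_comp]
    rfl
  have hex : ValuativeCriterion.Existence f := by
    have : UniversallyClosed f := inferInstance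
    rw [UniversallyClosed.eq_valuativeCriterion] at this
    exact this.1
  obtain ⟨l, hl₁, hl₂⟩ := (hex { R := R, K := K, commSq := ⟨w⟩, .. }).exists_lift
  dsimp only at hl₁ hl₂
  let s : SC ⟶ Spec (CommRingCat.of R) := Spec.map (CommRingCat.ofHom (stPart 𝒰))
  have hsy : (s ≫ l) ≫ f = y.1 := by
    rw [Category.assoc, hl₂, ← Category.assoc, ← Spec.map_comp, val_eq_fromSpec y hV hyV]
    congr 2
    ext b
    exact hβ b
  let x : Pts X := ⟨s ≫ l, by rw [← comp_over f, ← Category.assoc, hsy, y.2]⟩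
  refine ⟨x, Subtype.ext hsy, ?_⟩
  obtain ⟨W, hW, hxW⟩ := exists_affine_nhd x.pt
  -- the lift lands in `W`
  have hlW : ⊤ ≤ l ⁻¹ᵁ W := by
    intro p _
    have hsp : s cpt = IsLocalRing.closedPoint R := by
      have : (RingHom.ker (stPart 𝒰)).IsMaximal :=
        RingHom.ker_isMaximal_of_surjective _ (stPart_surjective 𝒰)
      refine PrimeSpectrum.ext (Eq.trans ?_ (IsLocalRing.eq_maximalIdeal this))
      have hb : (cpt : PrimeSpectrum ℂ).asIdeal = ⊥ := Ideal.eq_bot_of_prime _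
      change Ideal.comap (stPart 𝒰) (cpt : PrimeSpectrum ℂ).asIdeal = _
      rw [hb]; rfl
    have hcl : l (IsLocalRing.closedPoint R) ∈ W := by
      rw [← hsp]; exact hxW
    exact ((IsLocalRing.specializes_closedPoint p).map l.continuous).mem_open W.2 hcl
  let ω : Γ(X, W) →+* R :=
    (Scheme.ΓSpecIso (CommRingCat.of R)).hom.hom.comp (l.appLE W ⊤ hlW).hom
  have hlω : l = Spec.map (CommRingCat.ofHom ω) ≫ hW.fromSpec := by
    have e := IsAffineOpen.SpecMap_appLE_fromSpec (f := l) hW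
      (isAffineOpen_top (Spec (CommRingCat.of R))) hlW
    rw [IsAffineOpen.fromSpec_top, Scheme.isoSpec_Spec_inv] at e
    have e' : CommRingCat.ofHom ω =
        l.appLE W ⊤ hlW ≫ (Scheme.ΓSpecIso (CommRingCat.of R)).hom := rfl
    rw [e', Spec.map_comp, Category.assoc, e, ← Category.assoc, ← Spec.map_comp, Iso.inv_hom_id,
      Spec.map_id, Category.id_comp]
  have hevx : ∀ a, x.ev W hxW a = stPart 𝒰 (ω a) := by
    have hc : x.1 = Spec.map (CommRingCat.ofHom ((stPart 𝒰).comp ω)) ≫ hW.fromSpec := by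
      change s ≫ l = _
      rw [hlω, ← Category.assoc, ← Spec.map_comp]
      rfl
    rw [val_eq_fromSpec x hW hxW, cancel_mono] at hc
    exact fun a => DFunLike.congr_fun (congrArg CommRingCat.Hom.hom (Spec.map_injective hc)) a
  -- the ultrafilter is concentrated on `W`
  let g₁ : Spec (CommRingCat.of K) ⟶ X :=
    Spec.map (CommRingCat.ofHom (germHom 𝒰 U hevU)) ≫ hU.fromSpec
  have hpU : g₁ (IsLocalRing.closedPoint K) ∈ U := by
    change _ ∈ (U : Set X)
    rw [← hU.range_fromSpec]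
    exact ⟨_, rfl⟩
  have hpW : g₁ (IsLocalRing.closedPoint K) ∈ W := by
    rw [show g₁ = Spec.map (CommRingCat.ofHom (algebraMap R K)) ≫ l from hl₁.symm]
    exact hlW trivial
  obtain ⟨a, haW, hpa⟩ := hU.exists_basicOpen_le (V := W) ⟨_, hpW⟩ hpU
  have hga : germHom 𝒰 U hevU a ≠ 0 := by
    intro h0
    have h1 : IsLocalRing.closedPoint K ∈
        (Spec.map (CommRingCat.ofHom (germHom 𝒰 U hevU))) ⁻¹ᵁ (hU.fromSpec ⁻¹ᵁ X.basicOpen a) := hpa
    rw [hU.fromSpec_preimage_basicOpen] at h1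
    refine h1 ?_
    change germHom 𝒰 U hevU a ∈ IsLocalRing.maximalIdeal K
    rw [h0]; exact Ideal.zero_mem _
  let D := X.basicOpen a
  have hDU : D ≤ U := X.basicOpen_le a
  have hevD : ∀ᶠ x' in (𝒰 : Filter (Pts X)), x'.pt ∈ D := by
    refine (Ultrafilter.em 𝒰 (fun x' : Pts X => x'.pt ∈ D)).resolve_right fun hn => hga ?_
    refine Filter.Germ.coe_eq.2 ?_
    filter_upwards [hn, hevU] with x' hx' hxU'
    simp only [dif_pos hxU', Pi.zero_apply]
    by_contra h0
    refine hx' ?_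
    have hu : IsUnit ((evHom x' U hxU') a) := isUnit_iff_ne_zero.2 h0
    change cpt ∈ x'.1 ⁻¹ᵁ X.basicOpen a
    rw [Scheme.preimage_basicOpen]
    have hu' : IsUnit (x'.1.appLE U ⊤ (top_le_preimage x' hxU') a) :=
      (isUnit_map_iff (Scheme.ΓSpecIso (CommRingCat.of ℂ)).commRingCatIsoToRingEquiv _).1 hu
    have hmem : cpt ∈ SC.basicOpen (x'.1.appLE U ⊤ (top_le_preimage x' hxU') a) := by
      rw [Scheme.basicOpen_of_isUnit _ hu']; trivial
    rw [Scheme.Hom.appLE] at hmem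
    change cpt ∈ SC.basicOpen (SC.presheaf.map _ (x'.1.app U a)) at hmem
    rw [Scheme.basicOpen_res] at hmem
    exact hmem.2
  have hevW : ∀ᶠ x' in (𝒰 : Filter (Pts X)), x'.pt ∈ W := hevD.mono fun x' hx' => haW hx'
  have hω : germHom 𝒰 W hevW = (algebraMap R K).comp ω := by
    have e : Spec.map (CommRingCat.ofHom (germHom 𝒰 W hevW)) ≫ hW.fromSpec =
        Spec.map (CommRingCat.ofHom (algebraMap R K)) ≫ l := by
      have hDW : D ≤ W := haW
      have hD : IsAffineOpen D := hU.basicOpen a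
      rw [hl₁, germHom_res 𝒰 hDW hevD hevW, germHom_res 𝒰 hDU hevD hevU, Spec.map_comp,
        Spec.map_comp, Category.assoc, Category.assoc, hW.map_fromSpec hD, hU.map_fromSpec hD]
    rw [hlω, ← Category.assoc, ← Spec.map_comp, cancel_mono] at e
    exact congrArg CommRingCat.Hom.hom (Spec.map_injective e)
  -- convergence in `W`
  haveI : IsAffine (W : Scheme) := hW
  obtain ⟨xW, hxW'⟩ := exists_ptsV W x hxW
  obtain ⟨n, c, hc⟩ := exists_generators (W : Scheme)
  have hrange : Set.range (Pts.map W.ι) ∈ (𝒰 : Filter (Pts X)) :=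
    hevW.mono fun x' hx' => exists_ptsV W x' hx'
  let 𝒱 := 𝒰.comap (isEmbedding_map W.ι).injective hrange
  have hconv : (𝒱 : Filter (Pts (W : Scheme))) ≤ 𝓝 xW := by
    rw [(isInducing_coords hc).nhds_eq_comap, ← map_le_iff_le_comap]
    refine tendsto_pi_nhds.2 fun i => ?_
    let a' : Γ(X, W) := W.topIso.hom (c i)
    have hev' : ∀ z : Pts (W : Scheme), z.evTop (c i) =
        (Pts.map W.ι z).ev W (by rw [pt_map]; exact z.pt.2) a' := fun z => by
      rw [ev_map W.ι z W]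
      have hmid : W.ι.app W a' = (W : Scheme).presheaf.map (homOfLE le_top).op (c i) := by
        change (W.topIso.hom ≫ W.ι.app W) (c i) = _
        congr 2
        rw [Scheme.Opens.ι_app, Scheme.Opens.topIso]
        change X.presheaf.map _ ≫ X.presheaf.map _ = X.presheaf.map _
        rw [← X.presheaf.map_comp]
        rfl
      rw [hmid]
      exact (ev_res z le_top z.pt.2 (c i)).symm
    have htd : Tendsto (fun x' : Pts X => if hx' : x'.pt ∈ W then x'.ev W hx' a' else 0) 𝒰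
        (𝓝 (x.ev W hxW a')) := by
      obtain ⟨F, t, hF, ht⟩ := exists_rep 𝒰 (ω a')
      have h1 : (F : K) = germHom 𝒰 W hevW a' := by rw [hω]; exact hF
      have h2 : stPart 𝒰 (ω a') = t := by
        change germLim 𝒰 (ω a').1 = t
        rw [← hF]; exact germLim_coe 𝒰 ht
      rw [hevx, h2]
      exact ht.congr' (Filter.Germ.coe_eq.1 h1)
    have h3 : Tendsto (Pts.map W.ι) (𝒱 : Filter (Pts (W : Scheme))) 𝒰 := by
      rw [Ultrafilter.coe_comap]; exact tendsto_comap
    have h4 := htd.comp h3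
    have hxa : xW.evTop (c i) = x.ev W hxW a' := by
      rw [hev' xW]; congr 1
    rw [hxa]
    refine h4.congr fun z => ?_
    have hz : (Pts.map W.ι z).pt ∈ W := by rw [pt_map]; exact z.pt.2
    simp only [Function.comp_apply, dif_pos hz, hev']
  have := (Filter.map_mono (m := Pts.map W.ι) hconv).trans (continuous_map W.ι).continuousAt
  rwa [Ultrafilter.coe_comap, Filter.map_comap_of_mem hrange, hxW'] at this

end Ultra

theorem isProperMap_of_isProper [LocallyOfFiniteType (X ↘ SC)] [LocallyOfFiniteType (Y ↘ SC)]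
    (f : X ⟶ Y) [f.IsOver SC] [IsProper f] : IsProperMap (Pts.map f) :=
  isProperMap_iff_ultrafilter.2 ⟨continuous_map f, fun 𝒰 _ h => exists_limit 𝒰 f h⟩

end Groth.Agent.AnPts
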