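import Groth.Agent.AnPts.Proper
import Groth.Agent.Proj16.UClosedAffine
import Mathlib.AlgebraicGeometry.Morphisms.Proper

/-! Properness is detected on complex points. -/

open AlgebraicGeometry CategoryTheory TopologicalSpace Limits Filter Topology

noncomputable section

namespace Groth.Agent.AnPts

open An An.Pts

variable {X Y : Scheme.{0}} [X.Over SC] [Y.Over SC]
  [LocallyOfFiniteType (X ↘ SC)] [LocallyOfFiniteType (Y ↘ SC)]

theorem isProperMap_pullback_snd {Z : Scheme.{0}} [Z.Over SC] [LocallyOfFiniteType (Z ↘ SC)]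
    (f : X ⟶ Y) [f.IsOver SC] (q : Z ⟶ Y) [q.IsOver SC] (h : IsProperMap (Pts.map f)) :
    IsProperMap (Pts.map (pullback.snd f q)) := by
  refine isProperMap_iff_ultrafilter.2 ⟨continuous_map _, fun 𝒰 b hb => ?_⟩
  have h1 : Tendsto (Pts.map f) (𝒰.map (Pts.map (pullback.fst f q))) (𝓝 (Pts.map q b)) := by
    have e : Pts.map f ∘ Pts.map (pullback.fst f q) = Pts.map q ∘ Pts.map (pullback.snd f q) :=
      funext fun z => map_pullback_condition f q z
    rw [Ultrafilter.coe_map, tendsto_map'_iff, e]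
    exact ((continuous_map q).tendsto b).comp hb
  obtain ⟨a, ha, hle⟩ := h.ultrafilter_le_nhds_of_tendsto h1
  obtain ⟨z, hz⟩ := exists_prodMap_eq f q a b ha
  refine ⟨z, congrArg Prod.snd hz, ?_⟩
  rw [(isInducing_prodMap f q).nhds_eq_comap, ← tendsto_iff_comap, hz]
  have hle' : Tendsto (Pts.map (pullback.fst f q)) 𝒰 (𝓝 a) := by
    rw [Ultrafilter.coe_map] at hle
    exact hle
  exact hle'.prodMk_nhds hb

theorem isClosedMap_of_isProperMap (g : X ⟶ Y) [g.IsOver SC] [QuasiCompact g]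
    (h : IsProperMap (Pts.map g)) : IsClosedMap g := by
  intro C hC
  haveI := isLocallyNoetherian X
  haveI := locallyOfFinitePresentation_of_isOver g
  have hT := g.isLocallyConstructible_image (isLocallyConstructible_of_isClosed hC)
  rw [isClosed_iff_pts hT]
  have e : (pt ⁻¹' (g '' C) : Set (Pts Y)) = Pts.map g '' (pt ⁻¹' C) := by
    ext y
    constructor
    · rintro ⟨p, hpC, hp⟩
      have hc : IsClosed (g ⁻¹' {y.pt} : Set X) :=
        (pt_mem_closedPoints y : IsClosed ({y.pt} : Set Y)).preimage g.continuous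
      obtain ⟨x, hx⟩ := exists_pt_mem (S := C ∩ g ⁻¹' {y.pt}) (hC.inter hc).isLocallyClosed
        ⟨p, hpC, hp⟩
      exact ⟨x, hx.1, (map_eq_iff g x y).2 hx.2⟩
    · rintro ⟨x, hx, rfl⟩
      exact ⟨x.pt, hx, (pt_map g x).symm⟩
  rw [e]
  exact h.isClosedMap _ (hC.preimage continuous_pt)

theorem universallyClosed_of_isProperMap (f : X ⟶ Y) [f.IsOver SC] [QuasiCompact f]
    (h : IsProperMap (Pts.map f)) : UniversallyClosed f := by
  refine Groth.Agent.Proj16.universallyClosed_of_affineSpace f fun n => ?_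
  letI : (𝔸(ULift.{0} (Fin n); Y)).Over SC := ⟨(𝔸(ULift.{0} (Fin n); Y) ↘ Y) ≫ Y ↘ SC⟩
  haveI : (𝔸(ULift.{0} (Fin n); Y) ↘ Y).IsOver SC := ⟨rfl⟩
  haveI : LocallyOfFiniteType (𝔸(ULift.{0} (Fin n); Y) ↘ SC) := by
    change LocallyOfFiniteType ((𝔸(ULift.{0} (Fin n); Y) ↘ Y) ≫ Y ↘ SC)
    infer_instance
  exact isClosedMap_of_isProperMap _ (isProperMap_pullback_snd f _ h)

theorem isProper_iff_map (f : X ⟶ Y) [f.IsOver SC] [QuasiCompact f] :
    IsProper f ↔ IsProperMap (Pts.map f) ∧ IsSeparatedMap (Pts.map f) := by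
  refine ⟨fun _ => ⟨isProperMap_of_isProper f, (isSeparated_iff_map f).1 inferInstance⟩, fun h => ?_⟩
  haveI := (isSeparated_iff_map f).2 h.2
  haveI := universallyClosed_of_isProperMap f h.1
  haveI := locallyOfFiniteType_of_isOver f
  exact { }

end Groth.Agent.AnPts
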